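import Mathlib.GroupTheory.Schreier
import Mathlib.GroupTheory.FiniteAbelian.Basic
import Mathlib.GroupTheory.QuotientGroup.Basic
import Mathlib.Tactic.Group

/-!
# Commutators of normal subgroups (Baer)

If two normal subgroups have finitely many commutators, their commutator subgroup is finite.
-/

set_option autoImplicit false

open scoped commutatorElement
open Subgroup

namespace Groth.Agent.CommSub

variable {M : Type*} [Group M]

theorem finite_of_comm (A B : Subgroup M) [A.Normal] [B.Normal]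
    (hC : {g : M | ∃ a ∈ A, ∃ b ∈ B, ⁅a, b⁆ = g}.Finite)
    (hK : ∀ x ∈ ⁅A, B⁆, ∀ y ∈ ⁅A, B⁆, x * y = y * x) : ((⁅A, B⁆ : Subgroup M) : Set M).Finite := by
  classical
  let K : Subgroup M := ⁅A, B⁆
  letI : CommGroup K :=
    { (inferInstance : Group K) with mul_comm := fun x y => Subtype.ext (hK x.1 x.2 y.1 y.2) }
  have hKA : K ≤ A := commutator_le_left A B
  have htor : ∀ a ∈ A, ∀ b ∈ B, IsOfFinOrder (⁅a, b⁆ : M) := by
    intro a ha b hb
    let ψ : K →* K :=
      MonoidHom.mk' (fun k => ⟨⁅(k : M), b⁆, commutator_mem_commutator (hKA k.2) hb⟩) fun k l => Subtype.ext (by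
        show ⁅(k : M) * l, b⁆ = ⁅(k : M), b⁆ * ⁅(l : M), b⁆
        have h1 : ⁅(k : M) * l, b⁆ = (k : M) * ⁅(l : M), b⁆ * (k : M)⁻¹ * ⁅(k : M), b⁆ := by
          simp only [commutatorElement_def]; group
        rw [h1, hK _ k.2 _ (commutator_mem_commutator (hKA l.2) hb), mul_inv_cancel_right,
          hK _ (commutator_mem_commutator (hKA l.2) hb) _ (commutator_mem_commutator (hKA k.2) hb)])
    have hr : (Set.range ψ).Finite :=
      (hC.preimage Subtype.val_injective.injOn).subset (by rintro _ ⟨k, rfl⟩; exact ⟨k, hKA k.2, b, hb, rfl⟩)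
    haveI : Finite ψ.range := hr.to_subtype
    let c : K := ⟨⁅a, b⁆, commutator_mem_commutator ha hb⟩
    let m := Nat.card ψ.range
    have hm : 0 < m := Nat.card_pos
    have hfix : b * (⁅a, b⁆ ^ m) * b⁻¹ = ⁅a, b⁆ ^ m := by
      have h1 : (⟨ψ c, c, rfl⟩ : ψ.range) ^ m = 1 := pow_card_eq_one'
      have h2 : ψ (c ^ m) = 1 := by rw [map_pow]; exact congrArg Subtype.val h1
      have h3 : ⁅⁅a, b⁆ ^ m, b⁆ = 1 := congrArg Subtype.val h2
      rw [commutatorElement_eq_one_iff_mul_comm] at h3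
      rw [← h3, mul_inv_cancel_right]
    have hpow : ∀ n : ℕ, ⁅a, b ^ n⁆ ^ m = ⁅a, b⁆ ^ (m * n) := by
      intro n
      induction n with
      | zero => simp
      | succ n ih =>
        have h1 : ⁅a, b ^ (n + 1)⁆ = ⁅a, b ^ n⁆ * (b ^ n * ⁅a, b⁆ * (b ^ n)⁻¹) := by
          rw [pow_succ]; simp only [commutatorElement_def]; group
        have hmem : b ^ n * ⁅a, b⁆ * (b ^ n)⁻¹ ∈ K :=
          (inferInstance : K.Normal).conj_mem _ c.2 _
        have hconj : (b ^ n * ⁅a, b⁆ * (b ^ n)⁻¹) ^ m = ⁅a, b⁆ ^ m := by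
          rw [conj_pow]
          clear ih h1 hmem
          induction n with
          | zero => simp
          | succ n ih =>
            calc b ^ (n + 1) * ⁅a, b⁆ ^ m * (b ^ (n + 1))⁻¹
                = b ^ n * (b * ⁅a, b⁆ ^ m * b⁻¹) * (b ^ n)⁻¹ := by rw [pow_succ]; group
              _ = ⁅a, b⁆ ^ m := by rw [hfix, ih]
        have hcomm : Commute ⁅a, b ^ n⁆ (b ^ n * ⁅a, b⁆ * (b ^ n)⁻¹) :=
          hK _ (commutator_mem_commutator ha (pow_mem hb n)) _ hmem
        rw [h1, hcomm.mul_pow, ih, hconj, ← pow_add, Nat.mul_succ]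
    obtain ⟨i, j, hij, hne⟩ : ∃ i j : ℕ, ⁅a, b⁆ ^ (m * i) = ⁅a, b⁆ ^ (m * j) ∧ i ≠ j := by
      have hfin : (Set.range fun n : ℕ => ⁅a, b⁆ ^ (m * n)).Finite :=
        (hC.image (· ^ m)).subset (by rintro _ ⟨n, rfl⟩; exact ⟨_, ⟨a, ha, _, pow_mem hb n, rfl⟩, hpow n⟩)
      by_contra hcon
      exact hfin.not_infinite (Set.infinite_range_of_injective fun i j h => by_contra fun hne => hcon ⟨i, j, h, hne⟩)
    exact isOfFinOrder_iff_pow_eq_one.mpr (by
      by_contra hcon
      exact hne (Nat.eq_of_mul_eq_mul_left hm (injective_pow_iff_not_isOfFinOrder.mpr (fun h => hcon (isOfFinOrder_iff_pow_eq_one.mp h)) hij)))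
  have hKtop : K = Subgroup.closure {g : M | ∃ a ∈ A, ∃ b ∈ B, ⁅a, b⁆ = g} := commutator_def A B
  haveI : Group.FG K := by
    rw [Group.fg_iff_subgroup_fg, hKtop]
    exact ⟨hC.toFinset, by rw [Set.Finite.coe_toFinset]⟩
  have ht : ∀ x : M, x ∈ K → IsOfFinOrder x := by
    intro x hx
    rw [hKtop] at hx
    induction hx using Subgroup.closure_induction with
    | mem x hx => obtain ⟨a, ha, b, hb, rfl⟩ := hx; exact htor a ha b hb
    | one => exact IsOfFinOrder.one
    | mul x y hx hy ihx ihy =>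
      rw [← hKtop] at hx hy
      exact Commute.isOfFinOrder_mul (hK x hx y hy) ihx ihy
    | inv x _ ih => exact ih.inv
  haveI : Finite K :=
    CommGroup.finite_of_fg_torsion K fun x => Submonoid.isOfFinOrder_coe.mp (ht x.1 x.2)
  exact Set.toFinite (K : Set M)

/-- Two normal subgroups with finitely many commutators generate a finite commutator subgroup. -/
theorem finite_commutator (A B : Subgroup M) [A.Normal] [B.Normal]
    (hC : {g : M | ∃ a ∈ A, ∃ b ∈ B, ⁅a, b⁆ = g}.Finite) : ((⁅A, B⁆ : Subgroup M) : Set M).Finite := by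
  classical
  let C := {g : M | ∃ a ∈ A, ∃ b ∈ B, ⁅a, b⁆ = g}
  let K : Subgroup M := ⁅A, B⁆
  have hconj : ∀ g : M, ∀ c ∈ C, g * c * g⁻¹ ∈ C := by
    rintro g _ ⟨a, ha, b, hb, rfl⟩
    exact ⟨g * a * g⁻¹, Normal.conj_mem inferInstance a ha g, g * b * g⁻¹, Normal.conj_mem inferInstance b hb g,
      (conjugate_commutatorElement a b g).symm⟩
  haveI : Finite C := hC.to_subtype
  let ρ : M →* Equiv.Perm C :=
    { toFun := fun g => ⟨fun c => ⟨g * c * g⁻¹, hconj g c c.2⟩, fun c => ⟨g⁻¹ * c * g, by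
          simpa using hconj g⁻¹ c c.2⟩,
        fun c => Subtype.ext (by show g⁻¹ * (g * c * g⁻¹) * g = c; group),
        fun c => Subtype.ext (by show g * (g⁻¹ * c * g) * g⁻¹ = c; group)⟩
      map_one' := Equiv.ext fun c => Subtype.ext (by simp)
      map_mul' := fun g h => Equiv.ext fun c => Subtype.ext (by
        show g * h * c * (g * h)⁻¹ = g * (h * c * h⁻¹) * g⁻¹; group) }
  have hcen : ∀ g ∈ ρ.ker, ∀ x ∈ K, g * x * g⁻¹ = x := by
    intro g hg x hx
    have h1 : ∀ c ∈ C, g * c * g⁻¹ = c := fun c hc => congrArg Subtype.val (DFunLike.congr_fun hg ⟨c, hc⟩)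
    rw [show K = Subgroup.closure C from commutator_def A B] at hx
    induction hx using Subgroup.closure_induction with
    | mem c hc => exact h1 c hc
    | one => simp
    | mul x y _ _ hx hy => rw [← conj_mul, hx, hy]
    | inv x _ hx => rw [← conj_inv, hx]
  -- finitely many commutators inside `K`
  haveI : Finite (commutatorSet K) := by
    let N : Subgroup K := ρ.ker.subgroupOf K
    haveI : N.FiniteIndex := inferInstance
    let s : K ⧸ N → K := Quotient.out
    have hcoset : ∀ x : K, ∃ z ∈ N, x = s x * z := fun x =>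
      ⟨(s x)⁻¹ * x, QuotientGroup.eq.mp (QuotientGroup.out_eq' _), by group⟩
    have hz : ∀ z ∈ N, ∀ y : K, z * y = y * z := fun z hz y => Subtype.ext (by
      show (z : M) * y = y * z
      exact mul_inv_eq_iff_eq_mul.mp (hcen z hz y y.2))
    refine (((Set.finite_range fun p : (K ⧸ N) × (K ⧸ N) => ⁅s p.1, s p.2⁆)).subset ?_).to_subtype
    rintro _ ⟨x, y, rfl⟩
    obtain ⟨z, hz1, hxz⟩ := hcoset x
    obtain ⟨w, hw1, hyw⟩ := hcoset y
    refine ⟨(QuotientGroup.mk x, QuotientGroup.mk y), ?_⟩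
    show ⁅s x, s y⁆ = ⁅x, y⁆
    conv_rhs => rw [hxz, hyw]
    have e1 : ⁅s x * z, s y * w⁆ = s x * ((z * (s y * w)) * z⁻¹) * (s x)⁻¹ * (s y * w)⁻¹ := by
      simp only [commutatorElement_def]; group
    rw [e1, hz z hz1 (s y * w), mul_inv_cancel_right]
    have e2 : s x * (s y * w) * (s x)⁻¹ * (s y * w)⁻¹ = s x * s y * ((w * (s x)⁻¹) * w⁻¹) * (s y)⁻¹ := by group
    rw [e2, hz w hw1, mul_inv_cancel_right, commutatorElement_def]
  haveI hfin : Finite (_root_.commutator K) := inferInstance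
  -- divide by the commutator of `K`
  let L : Subgroup M := ⁅K, K⁆
  have hL : (L : Set M).Finite := by
    have e : (_root_.commutator K).map K.subtype = L := by
      rw [_root_.commutator_def, map_commutator, ← MonoidHom.range_eq_map, Subgroup.range_subtype]
    rw [← e, coe_map]
    exact (Set.toFinite _).image _
  haveI : L.Normal := commutator_normal K K
  let π := QuotientGroup.mk' L
  haveI : (A.map π).Normal := Normal.map inferInstance π (QuotientGroup.mk'_surjective L)
  haveI : (B.map π).Normal := Normal.map inferInstance π (QuotientGroup.mk'_surjective L)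
  have hKmap : K.map π = ⁅A.map π, B.map π⁆ := map_commutator A B π
  have hab : ∀ x ∈ ⁅A.map π, B.map π⁆, ∀ y ∈ ⁅A.map π, B.map π⁆, x * y = y * x := by
    rw [← hKmap]
    rintro _ ⟨x, hx, rfl⟩ _ ⟨y, hy, rfl⟩
    rw [← commutatorElement_eq_one_iff_mul_comm, ← map_commutatorElement]
    exact (QuotientGroup.eq_one_iff _).mpr (commutator_mem_commutator hx hy)
  have hKfin := finite_of_comm (A.map π) (B.map π) ((hC.image π).subset (by
    rintro _ ⟨_, ⟨a, ha, rfl⟩, _, ⟨b, hb, rfl⟩, rfl⟩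
    exact ⟨_, ⟨a, ha, b, hb, rfl⟩, map_commutatorElement π a b⟩)) hab
  rw [← hKmap, coe_map] at hKfin
  refine (hKfin.biUnion fun q hq => (hL.image fun l => Quotient.out q * l)).subset ?_
  intro x hx
  refine Set.mem_biUnion ⟨x, hx, rfl⟩ ⟨(Quotient.out (π x))⁻¹ * x, QuotientGroup.eq.mp (QuotientGroup.out_eq' _), ?_⟩
  group

end Groth.Agent.CommSub
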