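import Groth.Agent.AGFLib.GenSubgroup
import Mathlib.Algebra.Group.Pointwise.Set.ListOfFn

/-!
# Subgroups generated by irreducible families, with a bound on the length
-/

set_option autoImplicit false
set_option linter.all false
set_option backward.isDefEq.respectTransparency false
set_option backward.isDefEq.respectTransparency.types false

universe u

open CategoryTheory Limits AlgebraicGeometry MonoidalCategory CartesianMonoidalCategory MonObj GrpObj
open TopologicalSpace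
open Groth.Agent.AGFLib.Gen
open scoped Pointwise

namespace Groth.Agent.CommSub

variable {k : Type u} [Field k] [IsAlgClosed k]

local notation "PT" => 𝟙_ (Over (Spec (CommRingCat.of k)))

variable {G W : Over (Spec (CommRingCat.of k))} [GrpObj G] (φ : W ⟶ G)
  [LocallyOfFiniteType W.hom] [QuasiCompact W.hom] [IrreducibleSpace W.left]

/-- The subgroup generated by an irreducible symmetric family through the unit is closed, irreducible and
covered by products of bounded length. -/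
theorem exists_generated_bound [LocallyOfFiniteType G.hom] [QuasiCompact G.hom]
    (hone : ∃ w : PT ⟶ W, w ≫ φ = 1)
    (hinv : ∀ w : PT ⟶ W, ∃ w' : PT ⟶ W, w' ≫ φ = (w ≫ φ)⁻¹) :
    ∃ (N : ℕ) (Z : Set G.left), IsClosed Z ∧ IsIrreducible Z ∧
      (∀ g : PT ⟶ G, cp g ∈ Z ↔ g ∈ Subgroup.closure (Set.range fun w : PT ⟶ W => w ≫ φ)) ∧
      ∀ g ∈ Subgroup.closure (Set.range fun w : PT ⟶ W => w ≫ φ), g ∈ Pts φ N := by
  classical
  haveI := GrpSchLib.AntiAffine.isSeparated_grp G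
  haveI : IsLocallyNoetherian G.left := LocallyOfFiniteType.isLocallyNoetherian G.hom
  haveI : CompactSpace G.left := (quasiCompact_iff_compactSpace G.hom).mp inferInstance
  haveI : JacobsonSpace G.left := LocallyOfFiniteType.jacobsonSpace G.hom
  haveI : ∀ n, LocallyOfFiniteType (Wn W n).hom := fun n => (wn_props n).1
  haveI : ∀ n, QuasiCompact (Wn W n).hom := fun n => (wn_props n).2.1
  haveI : ∀ n, IrreducibleSpace (Wn W n).left := fun n => (wn_props n).2.2
  haveI : ∀ n, LocallyOfFiniteType (fn φ n).left := fun n => by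
    have : LocallyOfFiniteType ((fn φ n).left ≫ G.hom) := by rw [Over.w (fn φ n)]; infer_instance
    exact locallyOfFiniteType_of_comp (fn φ n).left G.hom
  haveI : ∀ n, QuasiCompact (fn φ n).left := fun n => by
    have : QuasiCompact ((fn φ n).left ≫ G.hom) := by rw [Over.w (fn φ n)]; infer_instance
    exact QuasiCompact.of_comp (fn φ n).left G.hom
  let S : ℕ → Set G.left := fun n => closure (Set.range (fn φ n).left)
  have hirr : ∀ n, IsIrreducible (S n) := fun n => by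
    refine IsIrreducible.closure ?_
    rw [← Set.image_univ]
    exact (IrreducibleSpace.isIrreducible_univ _).image _ (fn φ n).left.continuous.continuousOn
  have hmono : Monotone S := monotone_nat_of_le_succ fun n => closure_mono (by
    rintro _ ⟨x, rfl⟩
    obtain ⟨w₀, hw₀⟩ := hone
    let j : Wn W n ⟶ Wn W (n + 1) := lift (toUnit (Wn W n) ≫ w₀) (𝟙 _)
    have e : j ≫ fn φ (n + 1) = fn φ n := by
      show lift (toUnit (Wn W n) ≫ w₀) (𝟙 _) ≫ ((fst W (Wn W n) ≫ φ) * (snd W (Wn W n) ≫ fn φ n)) = _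
      rw [MonObj.comp_mul, lift_fst_assoc, lift_snd_assoc, Category.assoc, hw₀, MonObj.comp_one, Category.id_comp,
        _root_.one_mul]
    exact ⟨j.left x, congrArg (fun f : Wn W n ⟶ G => f.left x) e⟩)
  -- the chain stabilises
  obtain ⟨n, hn⟩ : ∃ n, ∀ m, S m ⊆ S n := by
    haveI : Nonempty G.left := ⟨cp η[G]⟩
    obtain ⟨η₀, -, hmax, -⟩ := VarDim.exists_deg_eq_topologicalKrullDim (p := G.hom)
    let e : ℕ → G.left := fun m => (hirr m).genericPoint
    have he : ∀ m, closure {e m} = S m := fun m =>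
      ((hirr m).isGenericPoint_genericPoint isClosed_closure).def
    have hfin : (Set.range fun m => VarDim.deg G.hom (e m)).Finite :=
      (Set.finite_Iic (VarDim.deg G.hom η₀)).subset (by rintro _ ⟨m, rfl⟩; exact hmax _)
    obtain ⟨_, ⟨n, rfl⟩, hnmax⟩ := hfin.exists_maximal ⟨_, 0, rfl⟩
    refine ⟨n, fun m => ?_⟩
    rcases le_total m n with h | h
    · exact hmono h
    · have hsp : e m ⤳ e n := specializes_iff_mem_closure.mpr (by
        rw [he m]; exact hmono h (he n ▸ subset_closure rfl))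
      by_contra hne
      have hlt : e n < e m := lt_iff_le_not_ge.2 ⟨hsp, fun h' => hne (by
        rw [← he m, ← he n]
        exact closure_minimal (Set.singleton_subset_iff.mpr (specializes_iff_mem_closure.mp h')) isClosed_closure)⟩
      have h3 := VarDim.deg_strictMono G.hom hlt
      exact absurd (hnmax ⟨m, rfl⟩ h3.le) (not_le.mpr h3)
  let Z : Set G.left := S n
  have hZc : IsClosed Z := isClosed_closure
  have hptsZ : ∀ {a g}, g ∈ Pts φ a → cp g ∈ Z := by
    rintro a g ⟨w, rfl⟩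
    exact hn a (subset_closure ⟨_, rfl⟩)
  -- closed sets containing the products contain `Z`
  have hclosed : ∀ A : Set G.left, IsClosed A → (∀ g ∈ Pts φ n, cp g ∈ A) → Z ⊆ A := fun A hA h => by
    refine closure_minimal ?_ hA
    rintro _ ⟨x, rfl⟩
    have := eq_univ_of_forall_cp (hA.preimage (fn φ n).left.continuous) (fun w => h _ ⟨w, rfl⟩)
    exact this.ge (Set.mem_univ x)
  let Zp : Set (PT ⟶ G) := {g | cp g ∈ Z}
  have hZinv : ∀ g ∈ Zp, g⁻¹ ∈ Zp := fun g hg => by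
    have e : ∀ x : PT ⟶ G, x ≫ (𝟙 G)⁻¹ = x⁻¹ := fun x => by rw [GrpObj.comp_inv, Category.comp_id]
    have := hclosed _ (hZc.preimage ((𝟙 G)⁻¹ : G ⟶ G).left.continuous) (fun x hx => by
      show ((𝟙 G)⁻¹ : G ⟶ G).left (cp x) ∈ Z
      rw [← cp_comp, e]
      exact hptsZ (pts_inv φ hinv hx)) hg
    rwa [Set.mem_preimage, ← cp_comp, e] at this
  have hright : ∀ {a y}, y ∈ Pts φ a → ∀ g ∈ Zp, g * y ∈ Zp := fun {a y} hy g hg => by
    have e : ∀ x : PT ⟶ G, x ≫ (𝟙 G * (toUnit G ≫ y)) = x * y := fun x => by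
      rw [MonObj.comp_mul, Category.comp_id, ← Category.assoc, toUnit_unique (x ≫ toUnit G) (𝟙 _), Category.id_comp]
    have := hclosed _ (hZc.preimage (𝟙 G * (toUnit G ≫ y)).left.continuous) (fun x hx => by
      show (𝟙 G * (toUnit G ≫ y)).left (cp x) ∈ Z
      rw [← cp_comp, e]
      exact hptsZ (pts_mul φ hx hy)) hg
    rwa [Set.mem_preimage, ← cp_comp, e] at this
  have hZmul : ∀ g ∈ Zp, ∀ y ∈ Zp, g * y ∈ Zp := fun g hg y hy => by
    have e : ∀ x : PT ⟶ G, x ≫ ((toUnit G ≫ g) * 𝟙 G) = g * x := fun x => by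
      rw [MonObj.comp_mul, Category.comp_id, ← Category.assoc, toUnit_unique (x ≫ toUnit G) (𝟙 _), Category.id_comp]
    have := hclosed _ (hZc.preimage ((toUnit G ≫ g) * 𝟙 G).left.continuous) (fun x hx => by
      show ((toUnit G ≫ g) * 𝟙 G).left (cp x) ∈ Z
      rw [← cp_comp, e]
      exact hright hx g hg) hy
    rwa [Set.mem_preimage, ← cp_comp, e] at this
  -- every point of `Z` is a product
  obtain ⟨U, hUo, ⟨x₁, hx₁⟩, hUsub⟩ :=
    GrpSchLib.exists_isOpen_inter_closure_range_subset (fn φ n).left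
  have hkey : ∀ g ∈ Zp, g ∈ Pts φ (n + n) := fun g hg => by
    let h : G ⟶ G := (toUnit G ≫ g) * (𝟙 G)⁻¹
    have eh : ∀ x : PT ⟶ G, x ≫ h = g * x⁻¹ := fun x => by
      simp only [h, MonObj.comp_mul, GrpObj.comp_inv, Category.comp_id]
      rw [← Category.assoc, toUnit_unique (x ≫ toUnit G) (𝟙 _), Category.id_comp]
    obtain ⟨c, hc1, hc2⟩ := nonempty_inter_closedPoints (Z := U ∩ Z) ⟨x₁, hx₁⟩
      (hUo.isLocallyClosed.inter hZc.isLocallyClosed)
    obtain ⟨x₀, rfl⟩ := exists_cp hc2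
    have hy₀ : cp (x₀⁻¹ * g) ∈ (h.left ⁻¹' U) ∩ Z := by
      refine ⟨?_, hZmul _ (hZinv _ hc1.2) _ hg⟩
      show h.left (cp (x₀⁻¹ * g)) ∈ U
      rw [← cp_comp, eh, _root_.mul_inv_rev, _root_.inv_inv, mul_inv_cancel_left]
      exact hc1.1
    obtain ⟨z, hzZ, hzU, hzh⟩ := (hirr n).2 U (h.left ⁻¹' U) hUo (hUo.preimage h.left.continuous)
      ⟨x₁, hx₁.2, hx₁.1⟩ ⟨_, hy₀.2, hy₀.1⟩
    obtain ⟨d, ⟨hdU, hdh, hdZ⟩, hd⟩ := nonempty_inter_closedPoints (Z := U ∩ ((h.left ⁻¹' U) ∩ Z)) ⟨z, hzU, hzh, hzZ⟩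
      (hUo.isLocallyClosed.inter ((hUo.preimage h.left.continuous).isLocallyClosed.inter hZc.isLocallyClosed))
    obtain ⟨y, rfl⟩ := exists_cp hd
    obtain ⟨w₁, hw₁⟩ := exists_of_mem_range (fn φ n) y (hUsub ⟨hdU, hdZ⟩)
    have hgy : cp (g * y⁻¹) ∈ U ∩ Z := by
      refine ⟨?_, hZmul _ hg _ (hZinv _ hdZ)⟩
      rw [← eh, cp_comp]; exact hdh
    obtain ⟨w₂, hw₂⟩ := exists_of_mem_range (fn φ n) _ (hUsub hgy)
    have := pts_mul φ ⟨w₂, hw₂⟩ ⟨w₁, hw₁⟩
    rwa [inv_mul_cancel_right] at this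
  have hgroup : ((Subgroup.closure (Set.range fun w : PT ⟶ W => w ≫ φ)) : Set (PT ⟶ G)) = Zp := by
    apply le_antisymm
    · let H : Subgroup (PT ⟶ G) :=
        { carrier := Zp
          one_mem' := hptsZ (a := 0) (by rw [pts_zero]; rfl)
          mul_mem' := fun hx hy => hZmul _ hx _ hy
          inv_mem' := fun hx => hZinv _ hx }
      exact (Subgroup.closure_le H).mpr (by rintro _ ⟨w, rfl⟩; exact hptsZ (mem_pts_one φ w))
    · intro g hg
      have : ∀ a, ∀ x ∈ Pts φ a, x ∈ Subgroup.closure (Set.range fun w : PT ⟶ W => w ≫ φ) := by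
        intro a
        induction a with
        | zero => intro x hx; rw [pts_zero] at hx; rw [show x = 1 from hx]; exact one_mem _
        | succ a ih =>
          intro x hx
          obtain ⟨w, x', hx', rfl⟩ := (mem_pts_succ φ).mp hx
          exact mul_mem (Subgroup.subset_closure ⟨w, rfl⟩) (ih _ hx')
      exact this _ _ (hkey g hg)
  refine ⟨n + n, Z, hZc, hirr n, fun g => ?_, fun g hg => hkey g (hgroup.le hg)⟩
  exact (Set.ext_iff.mp hgroup g).symm

section Families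

variable {G : Over (Spec (CommRingCat.of k))} [GrpObj G]

/-- Values of an irreducible family. -/
def IsFamily (V : Set (PT ⟶ G)) : Prop :=
  ∃ (W : Over (Spec (CommRingCat.of k))) (_ : LocallyOfFiniteType W.hom) (_ : QuasiCompact W.hom)
    (_ : IrreducibleSpace W.left) (φ : W ⟶ G), (Set.range fun w : PT ⟶ W => w ≫ φ) = V

omit [IsAlgClosed k] in
theorem isFamily_one : IsFamily ({1} : Set (PT ⟶ G)) := by
  refine ⟨PT, inferInstanceAs (LocallyOfFiniteType (𝟙 _)), inferInstanceAs (QuasiCompact (𝟙 _)),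
    inferInstanceAs (IrreducibleSpace (Spec (CommRingCat.of k))), η[G], ?_⟩
  ext g
  constructor
  · rintro ⟨w, rfl⟩
    show w ≫ η[G] = (1 : PT ⟶ G)
    rw [MonObj.one_eq_one, MonObj.comp_one]
  · rintro rfl
    exact ⟨𝟙 _, (Category.id_comp _).trans (MonObj.one_eq_one _)⟩

theorem IsFamily.mul {V V' : Set (PT ⟶ G)} (h : IsFamily V) (h' : IsFamily V') : IsFamily (V * V') := by
  obtain ⟨W, _, _, _, φ, rfl⟩ := h
  obtain ⟨W', _, _, _, φ', rfl⟩ := h'
  haveI := GrpSchLib.geometricallyIrreducible_of_isAlgClosed W.hom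
  refine ⟨W ⊗ W', inferInstanceAs (LocallyOfFiniteType (pullback.fst W.hom W'.hom ≫ W.hom)),
    inferInstanceAs (QuasiCompact (pullback.fst W.hom W'.hom ≫ W.hom)),
    inferInstanceAs (IrreducibleSpace ↥(pullback W.hom W'.hom)), (fst W W' ≫ φ) * (snd W W' ≫ φ'), ?_⟩
  ext g
  constructor
  · rintro ⟨w, rfl⟩
    show w ≫ ((fst W W' ≫ φ) * (snd W W' ≫ φ')) ∈ _
    rw [MonObj.comp_mul, ← Category.assoc, ← Category.assoc]
    exact Set.mul_mem_mul ⟨_, rfl⟩ ⟨_, rfl⟩
  · rintro ⟨_, ⟨w, rfl⟩, _, ⟨w', rfl⟩, rfl⟩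
    exact ⟨lift w w', by simp [MonObj.comp_mul]⟩

omit [IsAlgClosed k] in
theorem IsFamily.inv {V : Set (PT ⟶ G)} (h : IsFamily V) : IsFamily V⁻¹ := by
  obtain ⟨W, i1, i2, i3, φ, rfl⟩ := h
  refine ⟨W, i1, i2, i3, φ⁻¹, ?_⟩
  ext g
  simp only [Set.mem_range, Set.mem_inv, GrpObj.comp_inv, inv_eq_iff_eq_inv]

/-- The subgroup generated by finitely many irreducible families through the unit. -/
theorem exists_generated_families [LocallyOfFiniteType G.hom] [QuasiCompact G.hom] {J : Type*} [Finite J]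
    (V : J → Set (PT ⟶ G)) (hV : ∀ j, IsFamily (V j)) (h1 : ∀ j, (1 : PT ⟶ G) ∈ V j) :
    ∃ (N : ℕ) (Z : Set G.left), IsClosed Z ∧ IsIrreducible Z ∧
      (∀ g : PT ⟶ G, cp g ∈ Z ↔ g ∈ Subgroup.closure (⋃ j, V j)) ∧
      ∀ g ∈ Subgroup.closure (⋃ j, V j), g ∈ (((⋃ j, V j) ∪ {1}) * ((⋃ j, V j) ∪ {1})⁻¹) ^ N := by
  classical
  letI := Fintype.ofFinite J
  set C : Set (PT ⟶ G) := (⋃ j, V j) ∪ {1}
  have key : ∀ l : List J, ∃ P : Set (PT ⟶ G), IsFamily P ∧ 1 ∈ P ∧ (∀ j ∈ l, V j ⊆ P) ∧ P ⊆ C ^ l.length := by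
    intro l
    induction l with
    | nil => exact ⟨{1}, isFamily_one, rfl, by simp, by simp⟩
    | cons j l ih =>
      obtain ⟨P, hP, hP1, hPl, hPC⟩ := ih
      refine ⟨V j * P, (hV j).mul hP, ⟨1, h1 j, 1, hP1, _root_.mul_one 1⟩, fun i hi => ?_, ?_⟩
      · rcases List.mem_cons.mp hi with rfl | hi
        · exact fun x hx => ⟨x, hx, 1, hP1, _root_.mul_one x⟩
        · exact fun x hx => ⟨1, h1 j, x, hPl i hi hx, _root_.one_mul x⟩
      · rw [List.length_cons, pow_succ']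
        exact Set.mul_subset_mul (fun x hx => Or.inl (Set.mem_iUnion.mpr ⟨j, hx⟩)) hPC
  obtain ⟨P, hP, hP1, hPl, hPC⟩ := key (Finset.univ : Finset J).toList
  set m := (Finset.univ : Finset J).toList.length
  obtain ⟨W, _, _, _, φ, hφ⟩ := hP.mul hP.inv
  obtain ⟨N, Z, hZc, hZi, hZ, hb⟩ := exists_generated_bound φ
    (by
      have : (1 : PT ⟶ G) ∈ P * P⁻¹ := ⟨1, hP1, 1, by simpa using hP1, _root_.mul_one 1⟩
      rwa [← hφ] at this)
    (fun w => by
      have h : w ≫ φ ∈ P * P⁻¹ := hφ.le ⟨w, rfl⟩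
      obtain ⟨a, ha, b, hb, hab⟩ := h
      have h' : (w ≫ φ)⁻¹ ∈ P * P⁻¹ := ⟨b⁻¹, hb, a⁻¹, by simpa using ha, by rw [← hab]; simp⟩
      rwa [← hφ] at h')
  rw [hφ] at hZ hb
  have hC1 : (1 : PT ⟶ G) ∈ C := Or.inr rfl
  have hle : Subgroup.closure (P * P⁻¹) = Subgroup.closure (⋃ j, V j) := by
    refine le_antisymm ((Subgroup.closure_le _).mpr ?_) ((Subgroup.closure_le _).mpr ?_)
    · rintro _ ⟨a, ha, b, hb, rfl⟩
      have hC : ∀ x ∈ C, x ∈ Subgroup.closure (⋃ j, V j) := by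
        rintro x (hx | rfl)
        · exact Subgroup.subset_closure hx
        · exact one_mem _
      have hpow : ∀ n, ∀ x ∈ C ^ n, x ∈ Subgroup.closure (⋃ j, V j) := by
        intro n
        induction n with
        | zero => intro x hx; rw [pow_zero] at hx; rw [show x = 1 from hx]; exact one_mem _
        | succ n ih =>
          intro x hx
          rw [pow_succ] at hx
          obtain ⟨p, hp, q, hq, rfl⟩ := hx
          exact mul_mem (ih p hp) (hC q hq)
      exact mul_mem (hpow _ _ (hPC ha)) (by simpa using inv_mem (hpow _ _ (hPC hb)))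
    · rintro x hx
      obtain ⟨j, hj⟩ := Set.mem_iUnion.mp hx
      exact Subgroup.subset_closure ⟨x, hPl j (Finset.mem_toList.mpr (Finset.mem_univ j)) hj, 1, by simpa using hP1,
        _root_.mul_one x⟩
  rw [hle] at hZ hb
  -- bound the length
  have hCD : C ⊆ C * C⁻¹ := fun x hx => ⟨x, hx, 1, by simpa using hC1, _root_.mul_one x⟩
  have hDinv : (C * C⁻¹)⁻¹ = C * C⁻¹ := by rw [_root_.mul_inv_rev, _root_.inv_inv]
  have hPD : P * P⁻¹ ⊆ (C * C⁻¹) ^ (m + m) := by
    rw [pow_add]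
    refine Set.mul_subset_mul (hPC.trans (Set.pow_subset_pow_left hCD)) ?_
    rw [← hDinv, inv_pow]
    exact Set.inv_subset_inv.mpr (hPC.trans (Set.pow_subset_pow_left hCD))
  have hpts : ∀ a, ∀ g ∈ Pts φ a, g ∈ (P * P⁻¹) ^ a := by
    intro a
    induction a with
    | zero => intro g hg; rw [pts_zero] at hg; rw [pow_zero]; exact hg
    | succ a ih =>
      intro g hg
      obtain ⟨w, h, hh, rfl⟩ := (mem_pts_succ φ).mp hg
      rw [pow_succ']
      exact ⟨_, hφ.le ⟨w, rfl⟩, h, ih h hh, rfl⟩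
  refine ⟨(m + m) * N, Z, hZc, hZi, hZ, fun g hg => ?_⟩
  rw [pow_mul]
  exact Set.pow_subset_pow_left hPD (hpts N g (hb g hg))

end Families

end Groth.Agent.CommSub
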