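import Groth.Agent.CommSub.Baer
import Groth.Agent.CommSub.FieldGen
import Groth.Agent.SolvBound.Points
import Groth.Prelude.Def_AlgGrp

/-!
# The commutator subgroup of two subgroups over an algebraically closed field
-/

set_option autoImplicit false
set_option linter.all false
set_option backward.isDefEq.respectTransparency false
set_option backward.isDefEq.respectTransparency.types false

universe u

open CategoryTheory Limits AlgebraicGeometry MonoidalCategory CartesianMonoidalCategory MonObj GrpObj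
open TopologicalSpace
open Groth.Agent.AGFLib.Gen Groth.Agent.SolvBound
open scoped Pointwise commutatorElement CategoryTheory.MonObj

namespace Groth.Agent.CommSub

variable {k : Type u} [Field k] [IsAlgClosed k]

local notation "PT" => 𝟙_ (Over (Spec (CommRingCat.of k)))

variable {G A B : Over (Spec (CommRingCat.of k))} [GrpObj G] [GrpObj A] [GrpObj B]

/-- The points of a closed irreducible set form a family. -/
theorem exists_irreducible_source [LocallyOfFiniteType A.hom] [QuasiCompact A.hom] {T : Set (PT ⟶ A)}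
    (hT : @IsClosed _ (ptsTop (G := A)) T) (hi : @IsIrreducible _ (ptsTop (G := A)) T) :
    ∃ (W : Over (Spec (CommRingCat.of k))) (_ : LocallyOfFiniteType W.hom) (_ : QuasiCompact W.hom)
      (_ : IrreducibleSpace W.left) (i : W ⟶ A), (Set.range fun w : PT ⟶ W => w ≫ i) = T := by
  letI := ptsTop (G := A)
  haveI := GrpSchLib.AntiAffine.isSeparated_grp A
  let Z : Set A.left := closure (pt '' T)
  obtain ⟨C, hC, hCT⟩ := isClosed_induced_iff.mp hT
  have hZT : pt ⁻¹' Z = T := by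
    refine Set.Subset.antisymm (fun x hx => ?_) fun x hx => subset_closure ⟨x, hx, rfl⟩
    rw [← hCT]
    exact closure_minimal (by rw [← hCT]; exact Set.image_preimage_subset _ _) hC hx
  have hZi : IsIrreducible Z := (hi.image pt continuous_induced_dom.continuousOn).closure
  let Cl : Closeds A.left := ⟨Z, isClosed_closure⟩
  let I := Scheme.IdealSheafData.vanishingIdeal Cl
  let W : Over (Spec (CommRingCat.of k)) := Over.mk (I.subschemeι ≫ A.hom)
  let i : W ⟶ A := Over.homMk I.subschemeι rfl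
  haveI : IsClosedImmersion i.left := inferInstanceAs (IsClosedImmersion I.subschemeι)
  haveI : IsAffineHom I.subschemeι := inferInstance
  haveI : LocallyOfFiniteType W.hom := inferInstanceAs (LocallyOfFiniteType (I.subschemeι ≫ A.hom))
  haveI : QuasiCompact W.hom := inferInstanceAs (QuasiCompact (I.subschemeι ≫ A.hom))
  have hr : Set.range i.left = Z := H23.RedSub.range_vanishingIdeal Cl
  refine ⟨W, inferInstance, inferInstance, GrpSchLib.irreducibleSpace_of_range i (hr ▸ hZi), i, ?_⟩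
  rw [← hZT]
  ext x
  constructor
  · rintro ⟨w, rfl⟩
    show cp (w ≫ i) ∈ Z
    rw [← hr]
    exact ⟨cp w, rfl⟩
  · intro hx
    exact exists_of_mem_range i x (hr.symm ▸ hx)

/-- Commutators of two irreducible closed sets of points form a family. -/
theorem isFamily_comm [LocallyOfFiniteType A.hom] [QuasiCompact A.hom] [LocallyOfFiniteType B.hom]
    [QuasiCompact B.hom] (a : A ⟶ G) (b : B ⟶ G) {T : Set (PT ⟶ A)} {T' : Set (PT ⟶ B)}
    (hT : @IsClosed _ (ptsTop (G := A)) T) (hi : @IsIrreducible _ (ptsTop (G := A)) T)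
    (hT' : @IsClosed _ (ptsTop (G := B)) T') (hi' : @IsIrreducible _ (ptsTop (G := B)) T') :
    IsFamily (Set.image2 (fun x y => ⁅x ≫ a, y ≫ b⁆) T T') := by
  obtain ⟨W, _, _, _, i, hWi⟩ := exists_irreducible_source hT hi
  obtain ⟨W', _, _, _, i', hWi'⟩ := exists_irreducible_source hT' hi'
  haveI := GrpSchLib.geometricallyIrreducible_of_isAlgClosed W.hom
  refine ⟨W ⊗ W', inferInstanceAs (LocallyOfFiniteType (pullback.fst W.hom W'.hom ≫ W.hom)),
    inferInstanceAs (QuasiCompact (pullback.fst W.hom W'.hom ≫ W.hom)),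
    inferInstanceAs (IrreducibleSpace ↥(pullback W.hom W'.hom)),
    ⁅fst W W' ≫ i ≫ a, snd W W' ≫ i' ≫ b⁆, ?_⟩
  rw [← hWi, ← hWi']
  ext g
  constructor
  · rintro ⟨w, rfl⟩
    refine ⟨_, ⟨w ≫ fst W W', rfl⟩, _, ⟨w ≫ snd W W', rfl⟩, ?_⟩
    simp [commutatorElement_def, MonObj.comp_mul, GrpObj.comp_inv]
  · rintro ⟨_, ⟨w, rfl⟩, _, ⟨w', rfl⟩, rfl⟩
    exact ⟨lift w w', by simp [commutatorElement_def, MonObj.comp_mul, GrpObj.comp_inv]⟩

/-- Left translates of a closed irreducible set of points. -/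
theorem translate_closed [LocallyOfFiniteType A.hom] {T : Set (PT ⟶ A)} (hT : @IsClosed _ (ptsTop (G := A)) T)
    (hi : @IsIrreducible _ (ptsTop (G := A)) T) (x : PT ⟶ A) :
    @IsClosed _ (ptsTop (G := A)) ((x * ·) '' T) ∧ @IsIrreducible _ (ptsTop (G := A)) ((x * ·) '' T) := by
  letI := ptsTop (G := A)
  refine ⟨?_, hi.image _ ((contOps (G := A)).left x).continuousOn⟩
  rw [show ((x * ·) '' T) = (x⁻¹ * ·) ⁻¹' T from congrFun (Set.image_eq_preimage_of_inverse
    (f := (x * ·)) (g := (x⁻¹ * ·)) (fun y => inv_mul_cancel_left x y) (fun y => mul_inv_cancel_left x y)) T]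
  exact hT.preimage ((contOps (G := A)).left x⁻¹)

/-- The component of one among rational points: closed, irreducible, of finite index, and stable under
endomorphisms fixing one. -/
theorem component_one [LocallyOfFiniteType A.hom] [QuasiCompact A.hom] :
    ∃ A₀ : Subgroup (PT ⟶ A), @IsClosed _ (ptsTop (G := A)) (A₀ : Set (PT ⟶ A)) ∧
      @IsIrreducible _ (ptsTop (G := A)) (A₀ : Set (PT ⟶ A)) ∧
      (∃ s : Finset (PT ⟶ A), ∀ x, ∃ r ∈ s, ∃ u ∈ A₀, x = r * u) ∧
      (∀ q : A ⟶ A, (1 : PT ⟶ A) ≫ q = 1 → ∀ u ∈ A₀, u ≫ q ∈ A₀) ∧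
      (ConnectedSpace A.left → A₀ = ⊤) := by
  classical
  letI := ptsTop (G := A)
  haveI := noeth (G := A)
  have hc := contOps (G := A)
  haveI : Finite (ConnectedComponents (PT ⟶ A)) := (components_le (G := A)).1
  obtain ⟨hfin, -⟩ := quotient_card hc
  haveI := hfin
  letI := Fintype.ofFinite ((PT ⟶ A) ⧸ identComp hc)
  refine ⟨identComp hc, isClosed_connectedComponent,
    hc.isIrreducible_of_isPreconnected _ isPreconnected_connectedComponent,
    ⟨Finset.univ.image (fun c : (PT ⟶ A) ⧸ identComp hc => c.out), fun x => ⟨_, Finset.mem_image_of_mem _ (Finset.mem_univ (x : (PT ⟶ A) ⧸ identComp hc)),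
      (Quotient.out (x : (PT ⟶ A) ⧸ identComp hc))⁻¹ * x, QuotientGroup.eq.mp (QuotientGroup.out_eq' _), by group⟩⟩,
    fun q hq u hu => ?_, fun hA => ?_⟩
  · have hcont : Continuous fun x : PT ⟶ A => x ≫ q :=
      continuous_induced_rng.2 (q.left.continuous.comp continuous_induced_dom)
    exact (isPreconnected_connectedComponent.image _ hcont.continuousOn).subset_connectedComponent
      ⟨1, mem_connectedComponent, hq⟩ ⟨u, hu, rfl⟩
  · have hpre : IsPreconnected (Set.univ : Set (PT ⟶ A)) := by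
      rw [isPreconnected_closed_iff]
      rintro t t' ht ht' hsub ⟨x, -, hx⟩ ⟨y, -, hy⟩
      obtain ⟨C, hC, rfl⟩ := isClosed_induced_iff.mp ht
      obtain ⟨C', hC', rfl⟩ := isClosed_induced_iff.mp ht'
      have hcover : Set.univ ⊆ C ∪ C' := fun z _ =>
        (eq_univ_of_forall_cp (hC.union hC') (fun g => hsub (Set.mem_univ g))).ge (Set.mem_univ z)
      obtain ⟨z, -, hz⟩ := isPreconnected_closed_iff.mp (PreconnectedSpace.isPreconnected_univ (α := A.left)) C C' hC hC'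
        hcover ⟨pt x, trivial, hx⟩ ⟨pt y, trivial, hy⟩
      haveI : JacobsonSpace A.left := LocallyOfFiniteType.jacobsonSpace A.hom
      obtain ⟨c, hc1, hc2⟩ := nonempty_inter_closedPoints (Z := C ∩ C') ⟨z, hz⟩ (hC.inter hC').isLocallyClosed
      obtain ⟨g, rfl⟩ := exists_pt hc2
      exact ⟨g, trivial, hc1⟩
    refine eq_top_iff.mpr fun x _ => ?_
    exact hpre.subset_connectedComponent (Set.mem_univ (1 : PT ⟶ A)) (Set.mem_univ x)

/-- The commutators of rational points of two subgroups. -/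
def commSet (a : A ⟶ G) (b : B ⟶ G) : Set (PT ⟶ G) :=
  Set.range fun p : (PT ⟶ A) × (PT ⟶ B) => ⁅p.1 ≫ a, p.2 ≫ b⁆

/-- Commutators and their inverses, and one. -/
def commGen (a : A ⟶ G) (b : B ⟶ G) : Set (PT ⟶ G) := commSet a b * (commSet a b)⁻¹

variable [LocallyOfFiniteType G.hom] [QuasiCompact G.hom] [LocallyOfFiniteType A.hom] [QuasiCompact A.hom]
  [LocallyOfFiniteType B.hom] [QuasiCompact B.hom] (a : A ⟶ G) (b : B ⟶ G) [IsMonHom a] [IsMonHom b]

omit [IsAlgClosed k] [LocallyOfFiniteType G.hom] [QuasiCompact G.hom] [LocallyOfFiniteType A.hom] [QuasiCompact A.hom]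
  [LocallyOfFiniteType B.hom] [QuasiCompact B.hom] [IsMonHom b] in
theorem one_mem_commSet : (1 : PT ⟶ G) ∈ commSet a b :=
  ⟨(1, 1), by simp [commutatorElement_def]⟩

/-- The subgroup generated by the commutators is closed and covered by words of bounded length. -/
theorem exists_commutator_bound [Mono a] [Mono b]
    (hcase : ConnectedSpace A.left ∨ (AlgGrp.IsNormalHom a ∧ AlgGrp.IsNormalHom b)) :
    ∃ (N : ℕ) (Z : Set G.left), IsClosed Z ∧
      (∀ g : PT ⟶ G, cp g ∈ Z ↔ g ∈ Subgroup.closure (commSet a b)) ∧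
      (∀ g ∈ Subgroup.closure (commSet a b), g ∈ commGen a b ^ N) ∧
      (ConnectedSpace A.left → _root_.IsPreconnected Z) := by
  classical
  letI := ptsTop (G := A)
  obtain ⟨A₀, hA₀c, hA₀i, ⟨sA, hsA⟩, hA₀q, hA₀top⟩ := component_one (A := A)
  obtain ⟨B₀, hB₀c, hB₀i, ⟨sB, hsB⟩, hB₀q, -⟩ := component_one (A := B)
  have hC1 := one_mem_commSet a b
  have hD : ∀ {V : Set (PT ⟶ G)}, V ⊆ commSet a b → (V ∪ {1}) * (V ∪ {1})⁻¹ ⊆ commGen a b := fun {V} hV => by
    have h : V ∪ {1} ⊆ commSet a b := Set.union_subset hV (Set.singleton_subset_iff.mpr hC1)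
    exact Set.mul_subset_mul h (Set.inv_subset_inv.mpr h)
  by_cases hA : ConnectedSpace A.left
  · -- connected case
    have htop := hA₀top hA
    let V : {r // r ∈ sB} → Set (PT ⟶ G) := fun r =>
      Set.image2 (fun x y => ⁅x ≫ a, y ≫ b⁆) (A₀ : Set (PT ⟶ A)) ((r.1 * ·) '' (B₀ : Set (PT ⟶ B)))
    have hV : (⋃ r, V r) = commSet a b := by
      refine Set.Subset.antisymm ?_ ?_
      · rintro g hg
        obtain ⟨r, x, -, y, -, rfl⟩ := Set.mem_iUnion.mp hg
        exact ⟨(x, y), rfl⟩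
      · rintro _ ⟨⟨x, y⟩, rfl⟩
        obtain ⟨r, hr, u, hu, rfl⟩ := hsB y
        exact Set.mem_iUnion.mpr ⟨⟨r, hr⟩, x, htop ▸ Subgroup.mem_top x, _, ⟨u, hu, rfl⟩, rfl⟩
    obtain ⟨N, Z, hZc, hZi, hZ, hb⟩ := exists_generated_families V
      (fun r => isFamily_comm a b hA₀c hA₀i (translate_closed hB₀c hB₀i r.1).1 (translate_closed hB₀c hB₀i r.1).2)
      (fun r => ⟨1, one_mem A₀, r.1 * 1, ⟨1, one_mem B₀, rfl⟩, by simp [commutatorElement_def]⟩)
    rw [hV] at hZ hb
    exact ⟨N, Z, hZc, hZ, fun g hg => Set.pow_subset_pow_left (hD subset_rfl) (hb g hg), fun _ => hZi.2.isPreconnected⟩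
  · obtain ⟨hna, hnb⟩ := hcase.resolve_left hA
    -- the connected part
    let V : {r // r ∈ sB} ⊕ {r // r ∈ sA} → Set (PT ⟶ G) := Sum.elim
      (fun r => Set.image2 (fun x y => ⁅x ≫ a, y ≫ b⁆) (A₀ : Set (PT ⟶ A)) ((r.1 * ·) '' (B₀ : Set (PT ⟶ B))))
      (fun r => Set.image2 (fun x y => ⁅x ≫ a, y ≫ b⁆) ((r.1 * ·) '' (A₀ : Set (PT ⟶ A))) (B₀ : Set (PT ⟶ B)))
    obtain ⟨N₀, Z₀, hZ₀c, -, hZ₀, hb₀⟩ := exists_generated_families V
      (fun r => r.rec
        (fun r => isFamily_comm a b hA₀c hA₀i (translate_closed hB₀c hB₀i r.1).1 (translate_closed hB₀c hB₀i r.1).2)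
        (fun r => isFamily_comm a b (translate_closed hA₀c hA₀i r.1).1 (translate_closed hA₀c hA₀i r.1).2 hB₀c hB₀i))
      (fun r => r.rec
        (fun r => ⟨1, one_mem A₀, r.1 * 1, ⟨1, one_mem B₀, rfl⟩, by simp [commutatorElement_def]⟩)
        (fun r => ⟨r.1 * 1, ⟨1, one_mem A₀, rfl⟩, 1, one_mem B₀, by simp [commutatorElement_def]⟩))
    have hU : ∀ g, g ∈ (⋃ r, V r) ↔ ∃ x y, (x ∈ A₀ ∨ y ∈ B₀) ∧ ⁅x ≫ a, y ≫ b⁆ = g := by
      intro g
      constructor
      · intro hg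
        obtain ⟨r | r, hr⟩ := Set.mem_iUnion.mp hg
        · obtain ⟨x, hx, y, -, rfl⟩ := hr; exact ⟨x, y, Or.inl hx, rfl⟩
        · obtain ⟨x, -, y, hy, rfl⟩ := hr; exact ⟨x, y, Or.inr hy, rfl⟩
      · rintro ⟨x, y, hxy, rfl⟩
        rcases hxy with hx | hy
        · obtain ⟨r, hr, u, hu, rfl⟩ := hsB y
          exact Set.mem_iUnion.mpr ⟨.inl ⟨r, hr⟩, x, hx, _, ⟨u, hu, rfl⟩, rfl⟩
        · obtain ⟨r, hr, u, hu, rfl⟩ := hsA x
          exact Set.mem_iUnion.mpr ⟨.inr ⟨r, hr⟩, _, ⟨u, hu, rfl⟩, y, hy, rfl⟩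
    let N₀g : Subgroup (PT ⟶ G) := Subgroup.closure (⋃ r, V r)
    have hUC : (⋃ r, V r) ⊆ commSet a b := fun g hg => by
      obtain ⟨x, y, -, rfl⟩ := (hU g).mp hg
      exact ⟨(x, y), rfl⟩
    -- conjugation
    have hone : ∀ {W : Over (Spec (CommRingCat.of k))} [GrpObj W] (w : W ⟶ G) [IsMonHom w],
        (1 : PT ⟶ W) ≫ w = 1 := fun {W} _ w _ => MonObj.one_comp w
    have hconj : ∀ g : PT ⟶ G, (∀ x : PT ⟶ A, ∃ x', (x ∈ A₀ → x' ∈ A₀) ∧ x' ≫ a = g * (x ≫ a) * g⁻¹) ∧
        (∀ y : PT ⟶ B, ∃ y', (y ∈ B₀ → y' ∈ B₀) ∧ y' ≫ b = g * (y ≫ b) * g⁻¹) := by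
      intro g
      obtain ⟨qa, hqa⟩ := hna A (toUnit A ≫ g) (𝟙 A)
      obtain ⟨qb, hqb⟩ := hnb B (toUnit B ≫ g) (𝟙 B)
      have hA' : ∀ x : PT ⟶ A, (x ≫ qa) ≫ a = g * (x ≫ a) * g⁻¹ := fun x => by
        rw [Category.assoc, ← hqa, MonObj.comp_mul, MonObj.comp_mul, GrpObj.comp_inv, ← Category.assoc,
          toUnit_unique (x ≫ toUnit A) (𝟙 _)]
        simp
      have hB' : ∀ y : PT ⟶ B, (y ≫ qb) ≫ b = g * (y ≫ b) * g⁻¹ := fun y => by
        rw [Category.assoc, ← hqb, MonObj.comp_mul, MonObj.comp_mul, GrpObj.comp_inv, ← Category.assoc,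
          toUnit_unique (y ≫ toUnit B) (𝟙 _)]
        simp
      refine ⟨fun x => ⟨x ≫ qa, hA₀q qa ?_ x, hA' x⟩, fun y => ⟨y ≫ qb, hB₀q qb ?_ y, hB' y⟩⟩
      · rw [← cancel_mono a, hA' 1, hone a]; simp
      · rw [← cancel_mono b, hB' 1, hone b]; simp
    haveI hnormal : N₀g.Normal := by
      refine ⟨fun n hn g => ?_⟩
      induction hn using Subgroup.closure_induction with
      | mem z hz =>
        obtain ⟨x, y, hxy, rfl⟩ := (hU z).mp hz
        obtain ⟨x', hx', ex⟩ := (hconj g).1 x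
        obtain ⟨y', hy', ey⟩ := (hconj g).2 y
        refine Subgroup.subset_closure ((hU _).mpr ⟨x', y', hxy.imp hx' hy', ?_⟩)
        rw [ex, ey, ← conjugate_commutatorElement]
      | one => simp
      | mul p q _ _ hp hq => rw [← conj_mul]; exact mul_mem hp hq
      | inv p _ hp => rw [← conj_inv]; exact inv_mem hp
    let π := QuotientGroup.mk' N₀g
    let AR : Subgroup (PT ⟶ G) := (MonoidHom.mk' (fun x : PT ⟶ A => x ≫ a) fun x y => MonObj.mul_comp x y a).range
    let BR : Subgroup (PT ⟶ G) := (MonoidHom.mk' (fun y : PT ⟶ B => y ≫ b) fun x y => MonObj.mul_comp x y b).range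
    haveI : AR.Normal := ⟨by rintro _ ⟨x, rfl⟩ g; obtain ⟨x', -, ex⟩ := (hconj g).1 x; exact ⟨x', ex⟩⟩
    haveI : BR.Normal := ⟨by rintro _ ⟨y, rfl⟩ g; obtain ⟨y', -, ey⟩ := (hconj g).2 y; exact ⟨y', ey⟩⟩
    haveI : (AR.map π).Normal := Subgroup.Normal.map inferInstance π (QuotientGroup.mk'_surjective N₀g)
    haveI : (BR.map π).Normal := Subgroup.Normal.map inferInstance π (QuotientGroup.mk'_surjective N₀g)
    have hcl : ⁅AR, BR⁆ = Subgroup.closure (commSet a b) := by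
      rw [Subgroup.commutator_def]
      congr 1
      ext g
      constructor
      · rintro ⟨_, ⟨x, rfl⟩, _, ⟨y, rfl⟩, rfl⟩; exact ⟨(x, y), rfl⟩
      · rintro ⟨⟨x, y⟩, rfl⟩; exact ⟨_, ⟨x, rfl⟩, _, ⟨y, rfl⟩, rfl⟩
    have hcomm : ∀ x y, (x ∈ A₀ ∨ y ∈ B₀) → Commute (π (x ≫ a)) (π (y ≫ b)) := fun x y h =>
      commutatorElement_eq_one_iff_mul_comm.mp (by
        rw [← map_commutatorElement]
        exact (QuotientGroup.eq_one_iff _).mpr (Subgroup.subset_closure ((hU _).mpr ⟨x, y, h, rfl⟩)))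
    have hred : ∀ (x : PT ⟶ A) (y : PT ⟶ B), ∃ r ∈ sA, ∃ s ∈ sB, π ⁅x ≫ a, y ≫ b⁆ = π ⁅r ≫ a, s ≫ b⁆ := by
      intro x y
      obtain ⟨r, hr, u, hu, rfl⟩ := hsA x
      obtain ⟨s, hs, v, hv, rfl⟩ := hsB y
      refine ⟨r, hr, s, hs, ?_⟩
      have c1 := hcomm u s (Or.inl hu)
      have c2 := hcomm u v (Or.inl hu)
      have c3 := hcomm r v (Or.inr hv)
      rw [map_commutatorElement, map_commutatorElement, MonObj.mul_comp, MonObj.mul_comp, map_mul, map_mul]
      set R' := π (r ≫ a)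
      set U' := π (u ≫ a)
      set S' := π (s ≫ b)
      set V' := π (v ≫ b)
      have e1 : U' * (S' * V') = (S' * V') * U' := c1.mul_right c2
      have e2 : R' * V' = V' * R' := c3
      calc ⁅R' * U', S' * V'⁆ = R' * (U' * (S' * V')) * U'⁻¹ * R'⁻¹ * (V'⁻¹ * S'⁻¹) := by
            simp only [commutatorElement_def]; group
        _ = R' * S' * (V' * R'⁻¹) * V'⁻¹ * S'⁻¹ := by rw [e1]; group
        _ = R' * S' * (R'⁻¹ * V') * V'⁻¹ * S'⁻¹ := by rw [(c3.inv_left).eq]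
        _ = ⁅R', S'⁆ := by simp only [commutatorElement_def]; group
    have hfin : ((⁅AR.map π, BR.map π⁆ : Subgroup _) : Set ((PT ⟶ G) ⧸ N₀g)).Finite := by
      refine finite_commutator _ _ ?_
      refine (((sA ×ˢ sB).finite_toSet).image fun p => π ⁅p.1 ≫ a, p.2 ≫ b⁆).subset ?_
      rintro _ ⟨_, ⟨_, ⟨x, rfl⟩, rfl⟩, _, ⟨_, ⟨y, rfl⟩, rfl⟩, rfl⟩
      obtain ⟨r, hr, s, hs, e⟩ := hred x y
      exact ⟨(r, s), Finset.mem_coe.mpr (Finset.mem_product.mpr ⟨hr, hs⟩), e.symm.trans (map_commutatorElement π _ _)⟩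
    rw [← Subgroup.map_commutator, hcl, Subgroup.coe_map] at hfin
    -- representatives
    obtain ⟨F, hF, hcov⟩ : ∃ F : Finset (PT ⟶ G), (∀ f ∈ F, f ∈ Subgroup.closure (commSet a b)) ∧
        ∀ g ∈ Subgroup.closure (commSet a b), ∃ f ∈ F, f⁻¹ * g ∈ N₀g := by
      haveI := hfin.to_subtype
      choose f hf hfq using fun q : π '' (Subgroup.closure (commSet a b) : Set (PT ⟶ G)) => q.2
      refine ⟨(Set.finite_range f).toFinset, fun x hx => ?_, fun g hg => ⟨f ⟨π g, g, hg, rfl⟩, by simp, ?_⟩⟩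
      · obtain ⟨q, rfl⟩ := (Set.finite_range f).mem_toFinset.mp hx
        exact hf q
      · exact QuotientGroup.eq.mp (hfq ⟨π g, g, hg, rfl⟩)
    have h1D : (1 : PT ⟶ G) ∈ commGen a b := ⟨1, hC1, 1, by simpa using hC1, _root_.mul_one 1⟩
    have hmonoD : ∀ {m n : ℕ}, m ≤ n → commGen a b ^ m ⊆ commGen a b ^ n := fun h => Set.pow_subset_pow_right h1D h
    have hlen : ∀ g ∈ Subgroup.closure (commSet a b), ∃ n, g ∈ commGen a b ^ n := by
      intro g hg
      induction hg using Subgroup.closure_induction with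
      | mem x hx => exact ⟨1, by rw [pow_one]; exact ⟨x, hx, 1, by simpa using hC1, _root_.mul_one x⟩⟩
      | one => exact ⟨0, by rw [pow_zero]; rfl⟩
      | mul x y _ _ hx hy =>
        obtain ⟨m, hm⟩ := hx; obtain ⟨n, hn⟩ := hy
        exact ⟨m + n, by rw [pow_add]; exact Set.mul_mem_mul hm hn⟩
      | inv x _ hx =>
        obtain ⟨m, hm⟩ := hx
        refine ⟨m, ?_⟩
        have : (commGen a b)⁻¹ = commGen a b := by rw [commGen, _root_.mul_inv_rev, _root_.inv_inv]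
        rw [← this, inv_pow]
        simpa using hm
    choose len hlen using hlen
    let M := F.attach.sup fun f => len f.1 (hF f.1 f.2)
    let T : (PT ⟶ G) → (G ⟶ G) := fun f => (toUnit G ≫ f⁻¹) * 𝟙 G
    have hT : ∀ f g : PT ⟶ G, g ≫ T f = f⁻¹ * g := fun f g => by
      simp only [T, MonObj.comp_mul, Category.comp_id]
      rw [← Category.assoc, toUnit_unique (g ≫ toUnit G) (𝟙 _), Category.id_comp]
    refine ⟨M + N₀, ⋃ f ∈ F, (T f).left ⁻¹' Z₀, ?_, fun g => ?_, fun g hg => ?_, fun h => absurd h hA⟩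
    · exact F.finite_toSet.isClosed_biUnion fun f _ => hZ₀c.preimage (T f).left.continuous
    · simp only [Set.mem_iUnion, Set.mem_preimage]
      have hN : N₀g ≤ Subgroup.closure (commSet a b) := Subgroup.closure_mono hUC
      constructor
      · rintro ⟨f, hf, hg⟩
        rw [← cp_comp, hT] at hg
        have := mul_mem (hF f hf) (hN ((hZ₀ _).mp hg))
        rwa [mul_inv_cancel_left] at this
      · intro hg
        obtain ⟨f, hf, h⟩ := hcov g hg
        exact ⟨f, hf, by rw [← cp_comp, hT]; exact (hZ₀ _).mpr h⟩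
    · obtain ⟨f, hf, h⟩ := hcov g hg
      rw [pow_add]
      refine ⟨f, hmonoD (Finset.le_sup (f := fun f : {x // x ∈ F} => len f.1 (hF f.1 f.2)) (Finset.mem_attach F ⟨f, hf⟩))
        (hlen f (hF f hf)), f⁻¹ * g, Set.pow_subset_pow_left (hD hUC) (hb₀ _ h), mul_inv_cancel_left f g⟩

end Groth.Agent.CommSub
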