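import Groth.Agent.CommSub.PtsSubgroup
import Groth.Agent.CommSub.Field
import Groth.Agent.GrpSchLib.FieldComp
import Groth.Agent.H23.LocNoethTop

/-!
# A quasi-compact closed subgroup through finitely many components
-/

set_option autoImplicit false
set_option linter.all false
set_option backward.isDefEq.respectTransparency false
set_option backward.isDefEq.respectTransparency.types false

universe u

open CategoryTheory Limits AlgebraicGeometry MonoidalCategory CartesianMonoidalCategory MonObj GrpObj
open TopologicalSpace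
open Groth.Agent.AGFLib.Gen Groth.Agent.CommSub.Words
open scoped CategoryTheory.MonObj

namespace Groth.Agent.CommSub.Components

variable {k : Type u} [Field k] [IsAlgClosed k]

local notation "PT" => 𝟙_ (Over (Spec (CommRingCat.of k)))

variable {G : Over (Spec (CommRingCat.of k))} [GrpObj G] [LocallyOfFiniteType G.hom]

omit [IsAlgClosed k] in
theorem isOpen_component (x : G.left) : IsOpen (connectedComponent x) := by
  haveI : IsLocallyNoetherian G.left := LocallyOfFiniteType.isLocallyNoetherian G.hom
  haveI : LocallyConnectedSpace G.left := H23.LocNoethTop.locallyConnectedSpace fun y => by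
    obtain ⟨U, hU, hy, -⟩ := exists_isAffineOpen_mem_and_subset (x := y) (U := (⊤ : G.left.Opens)) trivial
    haveI : IsAffine U.toScheme := hU
    haveI : IsLocallyNoetherian U.toScheme := isLocallyNoetherian_of_isOpenImmersion U.ι
    haveI : CompactSpace U.toScheme := isCompact_iff_compactSpace.mp hU.isCompact
    haveI : AlgebraicGeometry.IsNoetherian U.toScheme := {}
    exact ⟨U, U.isOpen.mem_nhds hy, (inferInstance : NoetherianSpace U.toScheme)⟩
  exact isOpen_connectedComponent

/-- Translation by a rational point. -/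
noncomputable def tr (v : PT ⟶ G) : G ⟶ G := (toUnit G ≫ v) * 𝟙 G

omit [IsAlgClosed k] [LocallyOfFiniteType G.hom] in
theorem comp_tr (v g : PT ⟶ G) : g ≫ tr v = v * g := by
  simp only [tr, MonObj.comp_mul, Category.comp_id]
  rw [← Category.assoc, toUnit_unique (g ≫ toUnit G) (𝟙 _), Category.id_comp]

omit [IsAlgClosed k] [LocallyOfFiniteType G.hom] in
theorem tr_mem (v g : PT ⟶ G) (x : G.left) (h : cp g ∈ connectedComponent x) :
    cp (v * g) ∈ connectedComponent ((tr v).left x) := by
  rw [← comp_tr v g, cp_comp]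
  exact (tr v).left.continuous.image_connectedComponent_subset x ⟨_, h, rfl⟩

/-- The rational points of the component of the unit. -/
def unitPts : Subgroup (PT ⟶ G) where
  carrier := {g | cp g ∈ connectedComponent (cp (1 : PT ⟶ G))}
  one_mem' := mem_connectedComponent
  mul_mem' {g h} hg hh := by
    have h1 := tr_mem g h _ hh
    rw [← cp_comp, comp_tr, _root_.mul_one] at h1
    show cp (g * h) ∈ connectedComponent (cp (1 : PT ⟶ G))
    rw [connectedComponent_eq hg]
    exact h1
  inv_mem' {g} hg := by
    have h1 := tr_mem g⁻¹ g _ hg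
    rw [← cp_comp, comp_tr, _root_.mul_one, inv_mul_cancel] at h1
    show cp g⁻¹ ∈ connectedComponent (cp (1 : PT ⟶ G))
    rw [← connectedComponent_eq h1]
    exact mem_connectedComponent

omit [IsAlgClosed k] [LocallyOfFiniteType G.hom] in
theorem mem_unitPts {g : PT ⟶ G} : g ∈ unitPts ↔ cp g ∈ connectedComponent (cp (1 : PT ⟶ G)) := Iff.rfl

instance : (unitPts : Subgroup (PT ⟶ G)).Normal where
  conj_mem u hu g := by
    let c : G ⟶ G := (toUnit G ≫ g) * 𝟙 G * (toUnit G ≫ g⁻¹)
    have hc : ∀ x : PT ⟶ G, x ≫ c = g * x * g⁻¹ := fun x => by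
      simp only [c, MonObj.comp_mul, Category.comp_id]
      rw [← Category.assoc, ← Category.assoc, toUnit_unique (x ≫ toUnit G) (𝟙 _), Category.id_comp, Category.id_comp]
    have h1 := c.left.continuous.image_connectedComponent_subset (cp (1 : PT ⟶ G)) ⟨_, hu, rfl⟩
    rw [← cp_comp, ← cp_comp, hc, hc, _root_.mul_one, mul_inv_cancel] at h1
    exact h1

omit [IsAlgClosed k] [LocallyOfFiniteType G.hom] in
theorem mem_component_iff (v g : PT ⟶ G) : cp g ∈ connectedComponent (cp v) ↔ v⁻¹ * g ∈ unitPts := by
  constructor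
  · intro h
    have h1 := tr_mem v⁻¹ g _ h
    rwa [← cp_comp, comp_tr, inv_mul_cancel] at h1
  · intro h
    have h1 := tr_mem v (v⁻¹ * g) _ h
    rwa [← cp_comp, comp_tr, _root_.mul_one, mul_inv_cancel_left] at h1

theorem isCompact_component_one : IsCompact (connectedComponent (cp (1 : PT ⟶ G))) := by
  obtain ⟨gm, hgm, hge⟩ := GrpSchLib.exists_isMaxPt (η[G].left (IsLocalRing.closedPoint k))
  rw [show cp (1 : PT ⟶ G) = η[G].left (IsLocalRing.closedPoint k) by rw [← MonObj.one_eq_one],
    GrpSchLib.connectedComponent_one hgm hge]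
  exact GrpSchLib.isCompact_closure_one hgm hge

/-- A quasi-compact closed subgroup with reduced total space containing a family whose values form a subgroup and
the component of the unit. -/
theorem exists_qc_subgroup {W : Over (Spec (CommRingCat.of k))} [LocallyOfFiniteType W.hom] [QuasiCompact W.hom]
    (Φ : W ⟶ G) (V : Subgroup (PT ⟶ G)) (hV : vals PT Φ = SetLike.coe V) :
    ∃ (D : Over (Spec (CommRingCat.of k))) (_ : GrpObj D) (d : D ⟶ G), IsMonHom d ∧ IsClosedImmersion d.left ∧
      LocallyOfFiniteType D.hom ∧ QuasiCompact D.hom ∧ Set.range Φ.left ⊆ Set.range d.left ∧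
      connectedComponent (cp (1 : PT ⟶ G)) ⊆ Set.range d.left := by
  classical
  let C : Set G.left := ⋃ v ∈ V, connectedComponent (cp v)
  have hcov : Set.range Φ.left ⊆ C := by
    rintro _ ⟨w, rfl⟩
    haveI : JacobsonSpace W.left := LocallyOfFiniteType.jacobsonSpace W.hom
    obtain ⟨y, hy, hyc⟩ := nonempty_inter_closedPoints (Z := Φ.left ⁻¹' connectedComponent (Φ.left w))
      ⟨w, mem_connectedComponent⟩ ((isClosed_connectedComponent.preimage Φ.left.continuous).isLocallyClosed)
    obtain ⟨t, rfl⟩ := exists_cp hyc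
    refine Set.mem_iUnion₂.mpr ⟨t ≫ Φ, hV.le ⟨t, rfl⟩, ?_⟩
    show _ ∈ connectedComponent (Φ.left (cp t))
    rw [← connectedComponent_eq hy]
    exact mem_connectedComponent
  haveI : CompactSpace W.left := (quasiCompact_iff_compactSpace W.hom).mp inferInstance
  obtain ⟨F, hF, hFfin, hFcov⟩ := (isCompact_range Φ.left.continuous).elim_finite_subcover_image
    (b := SetLike.coe V) (c := fun v => connectedComponent (cp v)) (fun v _ => isOpen_component _) hcov
  have hC : C = ⋃ v ∈ F, connectedComponent (cp v) := by
    refine Set.Subset.antisymm ?_ (Set.biUnion_subset_biUnion_left hF)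
    refine Set.iUnion₂_subset fun v hv => ?_
    obtain ⟨w, hw⟩ := hV.ge hv
    obtain ⟨v', hv', hm⟩ := Set.mem_iUnion₂.mp (hFcov ⟨cp w, rfl⟩)
    have hm' : cp v ∈ connectedComponent (cp v') := by rw [← hw]; exact hm
    rw [← connectedComponent_eq hm']
    exact Set.subset_biUnion_of_mem (u := fun v : PT ⟶ G => connectedComponent (cp v)) hv'
  have hCc : IsClosed C := hC ▸ hFfin.isClosed_biUnion fun v _ => isClosed_connectedComponent
  have hCk : IsCompact C := hC ▸ hFfin.isCompact_biUnion fun v _ => by
    refine (isCompact_component_one.image (tr v).left.continuous).of_isClosed_subset isClosed_connectedComponent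
      fun y hy => ?_
    have h2 : (tr v⁻¹).left y ∈ connectedComponent (cp (1 : PT ⟶ G)) := by
      have := (tr v⁻¹).left.continuous.image_connectedComponent_subset (cp v) ⟨y, hy, rfl⟩
      rwa [← cp_comp, comp_tr, inv_mul_cancel] at this
    refine ⟨_, h2, ?_⟩
    have e : tr v⁻¹ ≫ tr v = 𝟙 G := by
      simp only [tr, MonObj.comp_mul, Category.comp_id]
      rw [← Category.assoc, toUnit_unique (_ ≫ toUnit G) (toUnit G), ← _root_.mul_assoc, ← MonObj.comp_mul,
        mul_inv_cancel, MonObj.comp_one, _root_.one_mul]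
    exact congrArg (fun m : G ⟶ G => m.left y) e
  obtain ⟨D, str, d, hd, hdci, hDlft, -, hr⟩ := PtsSubgroup.exists_subgroup hCc (V ⊔ unitPts) fun g => by
    constructor
    · intro hg
      obtain ⟨v, hv, h⟩ := Set.mem_iUnion₂.mp hg
      have := mul_mem (Subgroup.mem_sup_left (T := unitPts) hv)
        (Subgroup.mem_sup_right (S := V) ((mem_component_iff v g).mp h))
      rwa [mul_inv_cancel_left] at this
    · intro hg
      rw [← SetLike.mem_coe, Subgroup.mul_normal V unitPts] at hg
      obtain ⟨v, hv, u, hu, rfl⟩ := Set.mem_mul.mp hg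
      exact Set.mem_iUnion₂.mpr ⟨v, hv, (mem_component_iff v _).mpr (by rwa [inv_mul_cancel_left])⟩
  haveI := hdci
  haveI : QuasiCompact D.hom := by
    haveI : CompactSpace D.left := isCompact_univ_iff.mp (by
      rw [d.left.isClosedEmbedding.isInducing.isCompact_iff, Set.image_univ, hr]; exact hCk)
    exact (quasiCompact_iff_compactSpace D.hom).mpr inferInstance
  refine ⟨D, str, d, hd, hdci, hDlft, inferInstance, hcov.trans hr.ge, fun y hy => hr.ge ?_⟩
  exact Set.mem_iUnion₂.mpr ⟨1, one_mem V, hy⟩

end Groth.Agent.CommSub.Components
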