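import Groth.Agent.CommSub.Image
import Groth.Agent.S0414
import Groth.Agent.S0420
import Groth.Agent.S0434
import Groth.Agent.S2501
import Groth.Agent.S2535
import Groth.Agent.S4625
import Groth.Agent.S7795
import Groth.Agent.S12442
import Groth.Agent.AssLib.FlatFibre
import Groth.Agent.FibDim.Comp
import Groth.Agent.GrpSchLib.HomSplitLocal
import Groth.Agent.RedOpen.NhdCent
import Groth.Prelude.Def_Red

/-!
# Spreading out the subgroup swept out by a family over the generic point
-/

set_option autoImplicit false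
set_option linter.all false
set_option backward.isDefEq.respectTransparency false
set_option backward.isDefEq.respectTransparency.types false

universe u

open CategoryTheory Limits AlgebraicGeometry MonoidalCategory CartesianMonoidalCategory MonObj GrpObj
open Groth.Agent.AGFLib.Gen Groth.Agent.CommSub.Words Topology
open scoped CategoryTheory.MonObj

namespace Groth.Agent.CommSub.Spread

theorem restrict_prop {P : MorphismProperty Scheme.{u}} [P.IsStableUnderBaseChange] {X S : Scheme.{u}} (f : X ⟶ S)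
    {U₀ U : S.Opens} (hle : U ≤ U₀) (h : P (f ∣_ U₀)) : P (pullback.snd f U.ι) := by
  have hsq := (isPullback_morphismRestrict f U₀).flip
  let l : pullback f U.ι ⟶ (f ⁻¹ᵁ U₀) := hsq.lift (pullback.fst f U.ι) (pullback.snd f U.ι ≫ S.homOfLE hle)
    (by rw [Category.assoc, S.homOfLE_ι, pullback.condition])
  refine MorphismProperty.of_isPullback (f' := l) (g' := pullback.snd f U.ι) (f := S.homOfLE hle) (g := f ∣_ U₀) ?_ h
  refine IsPullback.of_right ?_ (hsq.lift_snd _ _ _) hsq
  rw [hsq.lift_fst, S.homOfLE_ι]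
  exact IsPullback.of_hasPullback f U.ι

theorem isLocallyConstructible_compl {X : Type*} [TopologicalSpace X] {s : Set X} (h : IsLocallyConstructible s) :
    IsLocallyConstructible sᶜ := fun x => by
  obtain ⟨U, h1, h2, h3⟩ := h x
  exact ⟨U, h1, h2, by rw [Set.preimage_compl]; exact h3.compl⟩

theorem bc_tensor_prop {P : MorphismProperty Scheme.{u}} [P.IsStableUnderBaseChange] [P.IsStableUnderComposition]
    [P.RespectsIso] {S T : Scheme.{u}} (f : T ⟶ S) {X Y : Over S} (hX : P (Red.bc f X).hom) (hY : P (Red.bc f Y).hom) :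
    P (Red.bc f (X ⊗ Y)).hom := by
  let e := (Functor.Monoidal.μIso (Over.pullback f) X Y).symm
  rw [← Over.w e.hom]
  refine (P.cancel_left_of_respectsIso e.hom.left _).mpr ?_
  show P (pullback.fst (Red.bc f X).hom (Red.bc f Y).hom ≫ (Red.bc f X).hom)
  exact P.comp_mem _ _ (MorphismProperty.pullback_fst (P := P) _ _ hY) hX

theorem bc_unit_prop {P : MorphismProperty Scheme.{u}} [P.ContainsIdentities] [P.RespectsIso] {S T : Scheme.{u}}
    (f : T ⟶ S) : P (Red.bc f (𝟙_ (Over S))).hom := by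
  show P (pullback.snd (𝟙 S) f)
  rw [← Category.comp_id (pullback.snd (𝟙 S) f)]
  exact (P.cancel_left_of_respectsIso _ _).mpr (P.id_mem _)

/-- Conjugation stability passes to base changes. -/
theorem isConjStable_map {S T : Scheme.{u}} (f : T ⟶ S) {G W : Over S} [GrpObj G] {φ : W ⟶ G}
    (h : IsConjStable φ) : IsConjStable ((Over.pullback f).map φ) := by
  obtain ⟨q, hq⟩ := h
  refine ⟨Functor.LaxMonoidal.μ (Over.pullback f) G W ≫ (Over.pullback f).map q, ?_⟩
  rw [Category.assoc, ← Functor.map_comp, hq, Functor.map_mul, Functor.map_mul, Functor.map_inv', Functor.map_comp,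
    MonObj.comp_mul, MonObj.comp_mul, GrpObj.comp_inv, Functor.Monoidal.μ_fst, Functor.Monoidal.μ_snd_assoc]

section Main

variable {S : Scheme.{u}} [IsIntegral S]

theorem lift_of_generic {G D₀ X₀ : Over S} (d₀ : D₀ ⟶ G) [IsClosedImmersion d₀.left] (f₀ : X₀ ⟶ G) {K : Scheme.{u}}
    (g : K ⟶ S) (U : S.Opens) [Flat (Red.bc U.ι X₀).hom] (gU : K ⟶ U.toScheme) (hgU : gU ≫ U.ι = g)
    [IsSchemeTheoreticallyDominant gU] [QuasiCompact gU] (c : Red.bc g X₀ ⟶ Red.bc g D₀)
    (hc : c ≫ (Over.pullback g).map d₀ = (Over.pullback g).map f₀) :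
    ∃ v : Red.bc U.ι X₀ ⟶ Red.bc U.ι D₀, v ≫ (Over.pullback U.ι).map d₀ = (Over.pullback U.ι).map f₀ := by
  let a : pullback X₀.hom g ⟶ pullback X₀.hom U.ι :=
    pullback.lift (pullback.fst X₀.hom g) (pullback.snd X₀.hom g ≫ gU) (by
      rw [Category.assoc, hgU, pullback.condition])
  haveI : Flat (pullback.snd X₀.hom U.ι) := ‹Flat (Red.bc U.ι X₀).hom›
  haveI : IsSchemeTheoreticallyDominant a := by
    refine IsSchemeTheoreticallyDominant.of_isPullback (f := gU) (g := pullback.snd X₀.hom U.ι)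
      (pX := pullback.snd X₀.hom g) (IsPullback.flip ?_)
    refine IsPullback.of_right ?_ (pullback.lift_snd _ _ _) (IsPullback.of_hasPullback X₀.hom U.ι)
    rw [pullback.lift_fst, hgU]
    first | done | exact IsPullback.of_hasPullback X₀.hom g
  haveI : IsClosedImmersion ((Over.pullback U.ι).map d₀).left :=
    MorphismProperty.baseChange_map (P := @IsClosedImmersion) U.ι d₀ inferInstance
  have hc' : c.left ≫ pullback.fst D₀.hom g ≫ d₀.left = pullback.fst X₀.hom g ≫ f₀.left := by
    have h := congrArg (fun m : Red.bc g X₀ ⟶ Red.bc g G => m.left ≫ pullback.fst G.hom g) hc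
    simp only [Over.comp_left, Category.assoc, GrpSchLib.HomSplitLocal.map_fst] at h
    exact h
  obtain ⟨v, hv⟩ := H23.AMonExt.exists_lift a ((Over.pullback U.ι).map d₀).left ((Over.pullback U.ι).map f₀).left
    (pullback.lift (c.left ≫ pullback.fst D₀.hom g) (pullback.snd X₀.hom g ≫ gU) (by
      rw [Category.assoc, Category.assoc, pullback.condition, hgU, ← Category.assoc c.left]
      exact congrArg (· ≫ g) (Over.w c)))
    (by
      apply pullback.hom_ext
      · simp only [Category.assoc, GrpSchLib.HomSplitLocal.map_fst, GrpSchLib.HomSplitLocal.map_fst,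
          pullback.lift_fst_assoc, a, hc']
      · simp only [Category.assoc, GrpSchLib.HomSplitLocal.map_snd, pullback.lift_snd, a])
  refine ⟨Over.homMk v ?_, Over.OverMorphism.ext hv⟩
  rw [← Over.w ((Over.pullback U.ι).map d₀), ← Category.assoc, hv, Over.w]

/-- A family whose values over the generic geometric point form a subgroup with closed range sweeps out a
subgroup scheme with smooth fibres over a nonempty open of the base. -/
theorem exists_spread {G W : Over S} [GrpObj G] [LocallyOfFinitePresentation G.hom] [QuasiCompact G.hom]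
    [QuasiSeparated G.hom] [LocallyOfFinitePresentation W.hom] [QuasiCompact W.hom] (Φ : W ⟶ G)
    (hsm : Smooth (Red.bc (Red.geomPt (genericPoint S)) W).hom)
    (hclosed : IsClosed (Set.range ((Over.pullback (Red.geomPt (genericPoint S))).map Φ).left))
    (V : Subgroup (𝟙_ (Over (Spec (CommRingCat.of (AlgebraicClosure (S.residueField (genericPoint S)))))) ⟶
      Red.bc (Red.geomPt (genericPoint S)) G))
    (hV : vals (𝟙_ (Over (Spec (CommRingCat.of (AlgebraicClosure (S.residueField (genericPoint S)))))))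
      (G := Red.bc (Red.geomPt (genericPoint S)) G) ((Over.pullback (Red.geomPt (genericPoint S))).map Φ) =
      SetLike.coe V) :
    ∃ U₀ : S.Opens, (U₀ : Set S).Nonempty ∧ ∀ U : S.Opens, U ≤ U₀ → (U : Set S).Nonempty →
      ∃ (D : Over (U : Scheme.{u})) (_ : GrpObj D) (d : D ⟶ Red.bc U.ι G) (p : Red.bc U.ι W ⟶ D),
        IsMonHom d ∧ IsClosedImmersion d.left ∧ LocallyOfFinitePresentation D.hom ∧ QuasiCompact D.hom ∧
        QuasiSeparated D.hom ∧ (∀ s : (U : Scheme.{u}), Smooth (D.hom.fiberToSpecResidueField s)) ∧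
        p ≫ d = (Over.pullback U.ι).map Φ ∧ Surjective p.left ∧
        (IsConjStable Φ → AlgGrp.IsNormalHom d) ∧
        (_root_.IsPreconnected (Set.range ((Over.pullback (Red.geomPt (genericPoint S))).map Φ).left) →
          ∀ s : (U : Scheme.{u}), ConnectedSpace (D.hom.fiber s)) := by
  classical
  let ξ := genericPoint S
  let L := AlgebraicClosure (S.residueField ξ)
  let g : Spec (CommRingCat.of L) ⟶ S := Red.geomPt ξ
  let F := Over.pullback g
  let PTL : Over (Spec (CommRingCat.of L)) := 𝟙_ _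
  have hξ : ∀ U : S.Opens, (U : Set S).Nonempty → ξ ∈ U := fun U hU =>
    ((genericPoint_spec S).mem_open_set_iff U.isOpen).mpr (by rw [Set.univ_inter]; exact hU)
  have hgpt : g (IsLocalRing.closedPoint L) = ξ := RedOpen.geomPt_closedPoint ξ
  haveI : Flat g := by
    haveI : Flat (Spec.map (CommRingCat.ofHom (algebraMap (S.residueField ξ) L))) :=
      (HasRingHomProperty.Spec_iff (P := @Flat)).mpr (RingHom.flat_algebraMap_iff.mpr inferInstance)
    haveI : Flat (S.fromSpecResidueField ξ) := AssLib.flat_fromSpecResidueField_genericPoint S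
    exact inferInstanceAs (Flat (_ ≫ S.fromSpecResidueField ξ))
  haveI : QuasiCompact Φ.left := by
    have : QuasiCompact (Φ.left ≫ G.hom) := by rw [Over.w Φ]; infer_instance
    exact QuasiCompact.of_comp Φ.left G.hom
  -- the schematic image over the whole base
  let D₀ : Over S := Over.mk (Φ.left.imageι ≫ G.hom)
  let d₀ : D₀ ⟶ G := Over.homMk Φ.left.imageι rfl
  let p₀ : W ⟶ D₀ := Over.homMk Φ.left.toImage (by
    show Φ.left.toImage ≫ Φ.left.imageι ≫ G.hom = W.hom
    rw [Scheme.Hom.toImage_imageι_assoc, Over.w Φ])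
  have hpd₀ : p₀ ≫ d₀ = Φ := Over.OverMorphism.ext Φ.left.toImage_imageι
  haveI : IsClosedImmersion d₀.left := inferInstanceAs (IsClosedImmersion Φ.left.imageι)
  haveI : IsAffineHom Φ.left.imageι := inferInstance
  haveI : LocallyOfFiniteType D₀.hom := inferInstanceAs (LocallyOfFiniteType (Φ.left.imageι ≫ G.hom))
  haveI : QuasiCompact D₀.hom := inferInstanceAs (QuasiCompact (Φ.left.imageι ≫ G.hom))
  haveI : QuasiSeparated D₀.hom := inferInstanceAs (QuasiSeparated (Φ.left.imageι ≫ G.hom))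
  haveI : IsSchemeTheoreticallyDominant p₀.left := RedImage.isSchemeTheoreticallyDominant_toImage Φ.left
  haveI : QuasiCompact p₀.left := by
    have : QuasiCompact (p₀.left ≫ d₀.left) := by rw [← Over.comp_left, hpd₀]; infer_instance
    exact QuasiCompact.of_comp p₀.left d₀.left
  haveI : LocallyOfFinitePresentation p₀.left := by
    have : LocallyOfFinitePresentation (p₀.left ≫ D₀.hom) := by rw [Over.w p₀]; infer_instance
    exact S12442.locallyOfFinitePresentation_of_comp p₀.left D₀.hom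
  -- the generic geometric fibre
  haveI : LocallyOfFiniteType (Red.bc g G).hom := inferInstanceAs (LocallyOfFiniteType (pullback.snd G.hom g))
  haveI : LocallyOfFiniteType (Red.bc g W).hom := inferInstanceAs (LocallyOfFiniteType (pullback.snd W.hom g))
  haveI : LocallyOfFiniteType (Red.bc g D₀).hom := inferInstanceAs (LocallyOfFiniteType (pullback.snd D₀.hom g))
  haveI : IsClosedImmersion (F.map d₀).left :=
    MorphismProperty.baseChange_map (P := @IsClosedImmersion) g d₀ inferInstance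
  haveI : IsSchemeTheoreticallyDominant (F.map p₀).left := by
    haveI : Flat (pullback.fst D₀.hom g) := MorphismProperty.pullback_fst _ _ inferInstance
    exact IsSchemeTheoreticallyDominant.of_isPullback (f := p₀.left) (g := pullback.fst D₀.hom g)
      (GrpSchLib.HomSplitLocal.isPullback_map p₀ g)
  haveI : QuasiCompact (F.map p₀).left := MorphismProperty.baseChange_map (P := @QuasiCompact) g p₀ inferInstance
  have hpdL : F.map p₀ ≫ F.map d₀ = F.map Φ := by rw [← F.map_comp, hpd₀]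
  have hrange : Set.range (F.map d₀).left = Set.range (F.map Φ).left := by
    refine Set.Subset.antisymm ?_ ?_
    · haveI : IsDominant (F.map p₀).left := inferInstance
      have hcl : IsClosed ((F.map d₀).left ⁻¹' Set.range (F.map Φ).left) := hclosed.preimage (F.map d₀).left.continuous
      rintro _ ⟨x, rfl⟩
      refine (hcl.closure_subset_iff.mpr ?_ ((F.map p₀).left.denseRange x) :
        x ∈ (F.map d₀).left ⁻¹' Set.range (F.map Φ).left)
      rintro _ ⟨w, rfl⟩
      exact ⟨w, by rw [← hpdL]; rfl⟩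
    · rintro _ ⟨w, rfl⟩
      exact ⟨(F.map p₀).left w, by rw [← hpdL]; rfl⟩
  have hredW : IsReduced (Red.bc g W).left := by
    haveI := hsm
    exact GrpSchLib.isReduced_of_smooth_field (Red.bc g W).hom
  haveI hredD : IsReduced (Red.bc g D₀).left := IsSchemeTheoreticallyDominant.isReduced (F.map p₀).left
  have hvals : vals PTL (F.map d₀) = SetLike.coe V := hV ▸ Set.Subset.antisymm
    (Image.vals_subset_of_range (F.map d₀) (F.map Φ) hrange.le)
    (Image.vals_subset_of_range (F.map Φ) (F.map d₀) hrange.ge)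
  have hfac : ∀ {X₀ : Over S} (f₀ : X₀ ⟶ G), Smooth (Red.bc g X₀).hom → vals PTL (F.map f₀) ⊆ SetLike.coe V →
      ∃ c : Red.bc g X₀ ⟶ Red.bc g D₀, c ≫ F.map d₀ = F.map f₀ := fun {X₀} f₀ hX hf => by
    haveI := hX
    haveI : IsReduced (Red.bc g X₀).left := GrpSchLib.isReduced_of_smooth_field (Red.bc g X₀).hom
    exact Image.factor_reduced _ _ (Image.range_subset_of_vals _ _ (F.map d₀).left.isClosedEmbedding.isClosed_range
      (hvals ▸ hf))
  obtain ⟨cone, hcone⟩ := hfac (1 : 𝟙_ (Over S) ⟶ G) (bc_unit_prop g) (by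
    rintro _ ⟨x, rfl⟩
    simp only [Functor.map_one, MonObj.comp_one]
    exact one_mem V)
  obtain ⟨cmul, hcmul⟩ := hfac ((fst W W ≫ Φ) * (snd W W ≫ Φ)) (bc_tensor_prop g hsm hsm) (by
    rintro _ ⟨x, rfl⟩
    simp only [Functor.map_mul, Functor.map_comp, MonObj.comp_mul]
    exact mul_mem (hV.le ⟨_, Category.assoc _ _ _⟩) (hV.le ⟨_, Category.assoc _ _ _⟩))
  obtain ⟨cinv, hcinv⟩ := hfac Φ⁻¹ hsm (by
    rintro _ ⟨x, rfl⟩
    simp only [Functor.map_inv', GrpObj.comp_inv]
    exact inv_mem (hV.le ⟨x, rfl⟩))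
  -- generic flatness and the fibres near the generic point
  obtain ⟨U₁, hU₁, hU₁f, hU₁p⟩ := S0414.result D₀.hom
  obtain ⟨U₂, hU₂, hU₂f, -⟩ := S0414.result W.hom
  obtain ⟨U₃, hU₃, hU₃f, -⟩ := S0414.result G.hom
  letI : Algebra (IsLocalRing.ResidueField (S.presheaf.stalk ξ)) L :=
    (inferInstance : Algebra (S.residueField ξ) L)
  let φ : Spec (CommRingCat.of L) ⟶ Spec (S.residueField ξ) :=
    Spec.map (CommRingCat.ofHom (algebraMap (S.residueField ξ) L))
  let eD : pullback (D₀.hom.fiberToSpecResidueField ξ) φ ≅ pullback D₀.hom g :=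
    pullbackLeftPullbackSndIso D₀.hom (S.fromSpecResidueField ξ) φ
  haveI : IsReduced (FBase.bc (k := ↑(S.residueField ξ)) (D₀.hom.fiberToSpecResidueField ξ) L) := by
    haveI : IsReduced (pullback D₀.hom g) := hredD
    exact isReduced_of_isOpenImmersion (show pullback (D₀.hom.fiberToSpecResidueField ξ) φ ⟶ _ from eD.hom)
  obtain ⟨V₁, hV₁, hV₁r⟩ := S0434.result D₀.hom (S2535.result (Ω := L) (D₀.hom.fiberToSpecResidueField ξ))
  obtain ⟨V₂, hV₂, hV₂c⟩ : ∃ V₂ : S.Opens, (V₂ : Set S).Nonempty ∧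
      (_root_.IsPreconnected (Set.range (F.map Φ).left) → GeometricallyConnected (D₀.hom ∣_ V₂)) := by
    by_cases hc : _root_.IsPreconnected (Set.range (F.map Φ).left)
    · have hconn : ConnectedSpace (Red.bc g D₀).left := by
        refine { toPreconnectedSpace := ⟨?_⟩, toNonempty := ?_ }
        · rw [← (F.map d₀).left.isClosedEmbedding.isInducing.isPreconnected_image, Set.image_univ, hrange]
          exact hc
        · obtain ⟨w, -⟩ := hV.ge (one_mem V)
          exact ⟨(F.map p₀).left (cp w)⟩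
      haveI : ConnectedSpace ↥(pullback (D₀.hom.fiberToSpecResidueField ξ) φ) := by
        haveI : ConnectedSpace ↥(pullback D₀.hom g) := hconn
        exact eD.inv.homeomorph.surjective.connectedSpace eD.inv.homeomorph.continuous
      haveI : GeometricallyConnected (FBase.bcStr (k := ↑(S.residueField ξ)) (D₀.hom.fiberToSpecResidueField ξ) L) :=
        S2501.result (pullback.snd (D₀.hom.fiberToSpecResidueField ξ) φ)
      obtain ⟨V₂, h₁, h₂⟩ := S0420.result D₀.hom
        ((S4625.result (K := L) (D₀.hom.fiberToSpecResidueField ξ)).mpr inferInstance)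
      exact ⟨V₂, h₁, fun _ => h₂⟩
    · exact ⟨⊤, ⟨ξ, trivial⟩, fun h => absurd h hc⟩
  -- surjectivity near the generic point
  have hsurjξ : ∀ x : D₀.left, D₀.hom x = ξ → x ∈ Set.range p₀.left := by
    intro x hx
    obtain ⟨z, hz, -⟩ := Scheme.Pullback.exists_preimage_pullback (f := D₀.hom) (g := g) x
      (IsLocalRing.closedPoint L) (hx.trans hgpt.symm)
    obtain ⟨w, hw⟩ := hrange.le ⟨z, rfl⟩
    have e : (F.map p₀).left w = z := (F.map d₀).left.isClosedEmbedding.injective (by
      rw [← hw, ← hpdL]; rfl)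
    refine ⟨pullback.fst W.hom g w, ?_⟩
    rw [← hz, ← e, ← Scheme.Hom.comp_apply, ← GrpSchLib.HomSplitLocal.map_fst p₀ g]
    rfl
  obtain ⟨U₅, hU₅ξ, hU₅⟩ : ∃ U₅ : S.Opens, ξ ∈ U₅ ∧ ∀ x : D₀.left, D₀.hom x ∈ U₅ → x ∈ Set.range p₀.left := by
    have h1 : ξ ∈ U₁ := hξ U₁ hU₁.nonempty
    haveI := hU₁p
    haveI : QuasiCompact (D₀.hom ∣_ U₁) := IsZariskiLocalAtTarget.restrict (P := @QuasiCompact) ‹_› U₁
    have hA : IsLocallyConstructible (Set.range p₀.left)ᶜ := by
      rw [← Set.image_univ]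
      exact isLocallyConstructible_compl (p₀.left.isLocallyConstructible_image IsLocallyConstructible.univ)
    have hA' : IsLocallyConstructible ((D₀.hom ⁻¹ᵁ U₁).ι ⁻¹' (Set.range p₀.left)ᶜ) :=
      hA.preimage_of_isOpenEmbedding (D₀.hom ⁻¹ᵁ U₁).ι.isOpenEmbedding
    obtain ⟨O, hO, hOo, hOξ⟩ := mem_nhds_iff.1 (FibDim.mem_nhds_of_generizations
      (isLocallyConstructible_compl ((D₀.hom ∣_ U₁).isLocallyConstructible_image hA')) (y := (⟨ξ, h1⟩ : U₁.toScheme)) fun y hy => by
        rintro ⟨z, hz, e⟩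
        refine hz (hsurjξ _ ?_)
        have hy' : (U₁.ι y : S) = ξ :=
          ((hy.map U₁.ι.continuous).antisymm ((genericPoint_spec S).specializes (Set.mem_univ _))).eq
        rw [← hy', ← e, ← Scheme.Hom.comp_apply, ← Scheme.Hom.comp_apply, morphismRestrict_ι])
    refine ⟨⟨U₁.ι '' O, U₁.ι.isOpenEmbedding.isOpenMap _ hOo⟩, ⟨⟨ξ, h1⟩, hOξ, rfl⟩, fun x hx => ?_⟩
    obtain ⟨y, hyO, hy⟩ := hx
    by_contra hxr
    have hxU : x ∈ D₀.hom ⁻¹ᵁ U₁ := by show D₀.hom x ∈ U₁; rw [← hy]; exact y.2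
    refine hO hyO ⟨⟨x, hxU⟩, hxr, U₁.ι.isOpenEmbedding.injective ?_⟩
    rw [hy, ← Scheme.Hom.comp_apply, morphismRestrict_ι]
    rfl
  obtain ⟨A₀, hA₀, hA₀ξ, -⟩ := exists_isAffineOpen_mem_and_subset (x := ξ) (U := ⊤) trivial
  refine ⟨A₀ ⊓ U₁ ⊓ U₂ ⊓ U₃ ⊓ V₁ ⊓ V₂ ⊓ U₅, ⟨ξ, ⟨⟨⟨⟨⟨⟨hA₀ξ, hξ _ hU₁.nonempty⟩, hξ _ hU₂.nonempty⟩,
    hξ _ hU₃.nonempty⟩, hξ _ hV₁⟩, hξ _ hV₂⟩, hU₅ξ⟩⟩, fun U hU hUne => ?_⟩
  simp only [le_inf_iff] at hU
  obtain ⟨⟨⟨⟨⟨⟨hUA, hU1⟩, hU2⟩, hU3⟩, hUV1⟩, hUV2⟩, hU5⟩ := hU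
  haveI : QuasiSeparatedSpace U.toScheme :=
    (isQuasiSeparated_iff_quasiSeparatedSpace _ U.isOpen).mp (hA₀.isQuasiSeparated.of_subset hUA)
  haveI : Nonempty U.toScheme := hUne.to_subtype
  haveI : IsIntegral U.toScheme := isIntegral_of_isOpenImmersion U.ι
  have hgU : Set.range g ⊆ Set.range U.ι := by
    rintro _ ⟨t, rfl⟩
    rw [Scheme.Opens.range_ι, Subsingleton.elim t (IsLocalRing.closedPoint L), hgpt]
    exact hξ U hUne
  let gU : Spec (CommRingCat.of L) ⟶ U.toScheme := IsOpenImmersion.lift U.ι g hgU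
  have hgUι : gU ≫ U.ι = g := IsOpenImmersion.lift_fac _ _ _
  haveI : IsDominant gU := by
    refine ⟨?_⟩
    have e : genericPoint U.toScheme ∈ Set.range gU := by
      refine ⟨IsLocalRing.closedPoint L, U.ι.isOpenEmbedding.injective ?_⟩
      rw [← Scheme.Hom.comp_apply, hgUι, hgpt, genericPoint_eq_of_isOpenImmersion U.ι]
    rw [DenseRange, dense_iff_closure_eq, ← Set.univ_subset_iff]
    exact (genericPoint_spec U.toScheme).def.symm.le.trans (closure_mono (Set.singleton_subset_iff.mpr e))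
  haveI : IsSchemeTheoreticallyDominant gU := .of_isDominant gU
  let FU := Over.pullback U.ι
  let D : Over (U : Scheme.{u}) := Red.bc U.ι D₀
  let d : D ⟶ Red.bc U.ι G := FU.map d₀
  let p : Red.bc U.ι W ⟶ D := FU.map p₀
  have hpd : p ≫ d = FU.map Φ := by rw [← FU.map_comp, hpd₀]
  haveI : IsClosedImmersion d.left :=
    MorphismProperty.baseChange_map (P := @IsClosedImmersion) U.ι d₀ inferInstance
  haveI : IsSchemeTheoreticallyDominant p.left := by
    haveI : Flat (pullback.fst D₀.hom U.ι) := MorphismProperty.pullback_fst _ _ inferInstance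
    exact IsSchemeTheoreticallyDominant.of_isPullback (f := p₀.left) (g := pullback.fst D₀.hom U.ι)
      (GrpSchLib.HomSplitLocal.isPullback_map p₀ U.ι)
  haveI : QuasiCompact p.left := MorphismProperty.baseChange_map (P := @QuasiCompact) U.ι p₀ inferInstance
  haveI : Flat D.hom := restrict_prop D₀.hom hU1 hU₁f
  haveI : Flat (Red.bc U.ι W).hom := restrict_prop W.hom hU2 hU₂f
  haveI : Flat (Red.bc U.ι G).hom := restrict_prop G.hom hU3 hU₃f
  haveI : LocallyOfFinitePresentation D.hom := restrict_prop D₀.hom hU1 hU₁p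
  haveI : GeometricallyReduced D.hom := restrict_prop D₀.hom hUV1 hV₁r
  haveI : Flat (Red.bc U.ι (W ⊗ W)).hom := bc_tensor_prop U.ι ‹_› ‹_›
  haveI : Flat (Red.bc U.ι (𝟙_ (Over S))).hom := bc_unit_prop U.ι
  obtain ⟨vone, hvone⟩ := lift_of_generic d₀ (1 : 𝟙_ (Over S) ⟶ G) g U gU hgUι cone hcone
  obtain ⟨vmul, hvmul⟩ := lift_of_generic d₀ ((fst W W ≫ Φ) * (snd W W ≫ Φ)) g U gU hgUι cmul hcmul
  obtain ⟨vinv, hvinv⟩ := lift_of_generic d₀ Φ⁻¹ g U gU hgUι cinv hcinv
  obtain ⟨str, hd⟩ := Image.exists_group d p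
    ⟨Functor.LaxMonoidal.ε FU ≫ vone, by
      rw [Category.assoc, hvone, Functor.map_one, MonObj.comp_one, MonObj.one_eq_one]⟩
    ⟨Functor.LaxMonoidal.μ FU W W ≫ vmul, by
      rw [Category.assoc, hvmul, hpd, Functor.map_mul, Functor.map_comp, Functor.map_comp, MonObj.comp_mul,
        Functor.Monoidal.μ_fst_assoc, Functor.Monoidal.μ_snd_assoc]⟩
    ⟨vinv, by rw [hvinv, hpd, Functor.map_inv']⟩
  letI := str
  haveI : Smooth D.hom := S7795.result D
  refine ⟨D, str, d, p, hd, inferInstance, inferInstance, inferInstanceAs (QuasiCompact (pullback.snd D₀.hom U.ι)),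
    inferInstanceAs (QuasiSeparated (pullback.snd D₀.hom U.ι)), fun s =>
      MorphismProperty.pullback_snd (P := @Smooth) _ _ inferInstance, hpd, ⟨fun x => ?_⟩,
    fun h => Image.isNormalHom d p (hpd.symm ▸ isConjStable_map U.ι h), fun hc s => ?_⟩
  · obtain ⟨w, hw⟩ := hU₅ (pullback.fst D₀.hom U.ι x) (hU5 (by
      rw [← Scheme.Hom.comp_apply, pullback.condition, Scheme.Hom.comp_apply]
      exact (pullback.snd D₀.hom U.ι x).2))
    have hsq := GrpSchLib.HomSplitLocal.isPullback_map p₀ U.ι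
    obtain ⟨z, -, hz⟩ := Scheme.Pullback.exists_preimage_pullback (f := p₀.left) (g := pullback.fst D₀.hom U.ι) w x hw
    refine ⟨hsq.isoPullback.inv z, ?_⟩
    show (hsq.isoPullback.inv ≫ ((Over.pullback U.ι).map p₀).left) z = x
    rw [hsq.isoPullback_inv_snd]
    exact hz
  · haveI : GeometricallyConnected D.hom := restrict_prop D₀.hom hUV2 (hV₂c hc)
    infer_instance

end Main

end Groth.Agent.CommSub.Spread
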