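import Groth.Agent.CommSub.Field
import Groth.Agent.CommSub.Spread
import Groth.Agent.GrpSchLib.LargestNormalSep

/-!
# Commutator subgroups in the fibres
-/

set_option autoImplicit false
set_option linter.all false
set_option backward.isDefEq.respectTransparency false
set_option backward.isDefEq.respectTransparency.types false

set_option synthInstance.maxHeartbeats 400000
set_option maxHeartbeats 1600000

universe u

open CategoryTheory Limits AlgebraicGeometry MonoidalCategory CartesianMonoidalCategory MonObj GrpObj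
open Groth.Agent.AGFLib.Gen Groth.Agent.CommSub.Words Topology
open scoped Pointwise commutatorElement CategoryTheory.MonObj

namespace Groth.Agent.CommSub.Fibres

/-- Every point of a constructible set, or of its complement, lies in a locally closed part of it. -/
theorem exists_isLocallyClosed {X : Type*} [TopologicalSpace X] {s : Set X} (hs : IsConstructible s) :
    (∀ x ∈ s, ∃ T, IsLocallyClosed T ∧ x ∈ T ∧ T ⊆ s) ∧ (∀ x ∈ sᶜ, ∃ T, IsLocallyClosed T ∧ x ∈ T ∧ T ⊆ sᶜ) := by
  induction hs using IsConstructible.empty_union_induction with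
  | open_retrocompact U hU hc =>
    exact ⟨fun x hx => ⟨U, hU.isLocallyClosed, hx, subset_rfl⟩,
      fun x hx => ⟨Uᶜ, hU.isClosed_compl.isLocallyClosed, hx, subset_rfl⟩⟩
  | union s hs t ht h h' =>
    constructor
    · rintro x (hx | hx)
      · obtain ⟨T, h1, h2, h3⟩ := h.1 x hx
        exact ⟨T, h1, h2, h3.trans Set.subset_union_left⟩
      · obtain ⟨T, h1, h2, h3⟩ := h'.1 x hx
        exact ⟨T, h1, h2, h3.trans Set.subset_union_right⟩
    · intro x hx
      rw [Set.compl_union] at hx
      obtain ⟨T, h1, h2, h3⟩ := h.2 x hx.1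
      obtain ⟨T', h1', h2', h3'⟩ := h'.2 x hx.2
      exact ⟨T ∩ T', h1.inter h1', ⟨h2, h2'⟩, by rw [Set.compl_union]; exact Set.inter_subset_inter h3 h3'⟩
  | compl s hs h => exact ⟨h.2, by rw [compl_compl]; exact h.1⟩

section Field

variable {k : Type u} [Field k] [IsAlgClosed k]

local notation "PT" => 𝟙_ (Over (Spec (CommRingCat.of k)))

/-- A closed set with the same rational points as an image is the image. -/
theorem range_eq_of_vals {G W : Over (Spec (CommRingCat.of k))} [GrpObj G] [LocallyOfFiniteType G.hom]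
    [QuasiCompact G.hom] [LocallyOfFiniteType W.hom] [QuasiCompact W.hom] (f : W ⟶ G) {Z : Set G.left}
    (hZ : IsClosed Z) (h : ∀ g : PT ⟶ G, cp g ∈ Z ↔ g ∈ vals PT f) : Set.range f.left = Z := by
  haveI := GrpSchLib.AntiAffine.isSeparated_grp G
  haveI : JacobsonSpace G.left := LocallyOfFiniteType.jacobsonSpace G.hom
  have huniv := eq_univ_of_forall_cp (hZ.preimage f.left.continuous) fun w => (h (w ≫ f)).mpr ⟨w, rfl⟩
  refine Set.Subset.antisymm (by rintro _ ⟨x, rfl⟩; exact huniv.ge (Set.mem_univ x)) fun z hz => ?_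
  by_contra hzr
  haveI : IsLocallyNoetherian G.left := LocallyOfFiniteType.isLocallyNoetherian G.hom
  haveI : CompactSpace G.left := (quasiCompact_iff_compactSpace G.hom).mp inferInstance
  haveI : CompactSpace W.left := (quasiCompact_iff_compactSpace W.hom).mp inferInstance
  haveI : LocallyOfFiniteType (f.left ≫ G.hom) := by rw [Over.w f]; infer_instance
  haveI : LocallyOfFiniteType f.left := locallyOfFiniteType_of_comp f.left G.hom
  haveI : QuasiCompact (f.left ≫ G.hom) := by rw [Over.w f]; infer_instance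
  haveI : QuasiCompact f.left := QuasiCompact.of_comp f.left G.hom
  haveI : LocallyOfFinitePresentation f.left := inferInstance
  have hc : IsConstructible (Set.range f.left) := by
    rw [← Set.image_univ]
    exact f.left.isConstructible_image IsConstructible.univ
  obtain ⟨T, hT1, hT2, hT3⟩ := (exists_isLocallyClosed hc).2 z hzr
  obtain ⟨y, hy, hyc⟩ := nonempty_inter_closedPoints (Z := T ∩ Z) ⟨z, hT2, hz⟩ (hT1.inter hZ.isLocallyClosed)
  obtain ⟨g, rfl⟩ := exists_cp hyc
  obtain ⟨w, rfl⟩ := (h g).mp hy.2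
  exact hT3 hy.1 ⟨cp w, rfl⟩

/-- Powers of the commutators and their inverses stay in the subgroup they generate. -/
theorem commGen_pow_subset {G A B : Over (Spec (CommRingCat.of k))} [GrpObj G] (a : A ⟶ G) (b : B ⟶ G) :
    ∀ n : ℕ, commGen a b ^ n ⊆ (Subgroup.closure (commSet a b) : Set (PT ⟶ G))
  | 0 => by rw [pow_zero]; rintro _ rfl; exact one_mem _
  | n + 1 => by
    rw [pow_succ]
    rintro _ ⟨x, hx, _, ⟨c, hc, c', hc', rfl⟩, rfl⟩
    refine mul_mem (commGen_pow_subset a b n hx) (mul_mem (Subgroup.subset_closure hc) ?_)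
    exact (Subgroup.inv_mem_iff _).mp (Subgroup.subset_closure (Set.mem_inv.mp hc'))

end Field

section Base

variable {S : Scheme.{u}}

/-- Commutators in words of length `N + 1` of the generic geometric fibre. -/
theorem exists_word {K : Type u} [Field K] [IsAlgClosed K] (g : Spec (CommRingCat.of K) ⟶ S) {G A B : Over S}
    [GrpObj G] [LocallyOfFiniteType G.hom] [QuasiCompact G.hom] [LocallyOfFiniteType A.hom] [QuasiCompact A.hom]
    [LocallyOfFiniteType B.hom] [QuasiCompact B.hom] (a : A ⟶ G) (b : B ⟶ G) {A' B' : Over (Spec (CommRingCat.of K))}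
    [GrpObj A'] [GrpObj B'] [LocallyOfFiniteType A'.hom] [QuasiCompact A'.hom] [LocallyOfFiniteType B'.hom]
    [QuasiCompact B'.hom] (a' : A' ⟶ Red.bc g G) (b' : B' ⟶ Red.bc g G) [IsMonHom a'] [IsMonHom b'] [Mono a'] [Mono b']
    (ha : vals (𝟙_ _) a' = vals (𝟙_ _) ((Over.pullback g).map a))
    (hb : vals (𝟙_ _) b' = vals (𝟙_ _) ((Over.pullback g).map b))
    (hcase : ConnectedSpace A'.left ∨ (AlgGrp.IsNormalHom a' ∧ AlgGrp.IsNormalHom b')) :
    ∃ (N : ℕ) (V : Subgroup (𝟙_ (Over (Spec (CommRingCat.of K))) ⟶ Red.bc g G)),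
      vals (𝟙_ _) ((Over.pullback g).map (hom (cgen a b) (N + 1))) = SetLike.coe V ∧
      IsClosed (Set.range ((Over.pullback g).map (hom (cgen a b) (N + 1))).left) ∧
      (ConnectedSpace A'.left → _root_.IsPreconnected (Set.range ((Over.pullback g).map (hom (cgen a b) (N + 1))).left)) := by
  haveI : LocallyOfFiniteType (Red.bc g G).hom := inferInstanceAs (LocallyOfFiniteType (pullback.snd G.hom g))
  haveI : QuasiCompact (Red.bc g G).hom := inferInstanceAs (QuasiCompact (pullback.snd G.hom g))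
  obtain ⟨N, Z, hZ, hZV, hgen, hconn⟩ := exists_commutator_bound a' b' hcase
  let W := (A ⊗ B) ⊗ (A ⊗ B)
  let F := Over.pullback g
  have h1 : (1 : 𝟙_ _ ⟶ Red.bc g G) ∈ commGen a' b' :=
    ⟨1, one_mem_commSet a' b', 1, by simpa using one_mem_commSet a' b', _root_.mul_one 1⟩
  have hcm : vals (𝟙_ _) (F.map (cm a b)) = commSet a' b' := by
    rw [vals_cm]
    ext x
    constructor
    · rintro ⟨⟨p, q⟩, rfl⟩
      obtain ⟨p', hp⟩ := ha.ge ⟨p, rfl⟩
      obtain ⟨q', hq⟩ := hb.ge ⟨q, rfl⟩
      exact ⟨(p', q'), congr_arg₂ (fun x y => ⁅x, y⁆) hp hq⟩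
    · rintro ⟨⟨p, q⟩, rfl⟩
      obtain ⟨p', hp⟩ := ha.le ⟨p, rfl⟩
      obtain ⟨q', hq⟩ := hb.le ⟨q, rfl⟩
      exact ⟨(p', q'), congr_arg₂ (fun x y => ⁅x, y⁆) hp hq⟩
  have hv : vals (𝟙_ _) (F.map (hom (cgen a b) (N + 1))) = SetLike.coe (Subgroup.closure (commSet a' b')) := by
    rw [vals_hom, vals_cgen, hcm]
    exact Set.Subset.antisymm (commGen_pow_subset a' b' _)
      fun x hx => Set.pow_subset_pow_right h1 (Nat.le_succ N) (hgen x hx)
  have hW : LocallyOfFiniteType W.hom ∧ QuasiCompact W.hom :=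
    ⟨inferInstanceAs (LocallyOfFiniteType (pullback.fst (pullback.fst A.hom B.hom ≫ A.hom)
      (pullback.fst A.hom B.hom ≫ A.hom) ≫ (pullback.fst A.hom B.hom ≫ A.hom))),
     inferInstanceAs (QuasiCompact (pullback.fst (pullback.fst A.hom B.hom ≫ A.hom)
      (pullback.fst A.hom B.hom ≫ A.hom) ≫ (pullback.fst A.hom B.hom ≫ A.hom)))⟩
  obtain ⟨hsrc1, hsrc2⟩ := src_prop (P := fun X : Over S => LocallyOfFiniteType X.hom ∧ QuasiCompact X.hom)
    ⟨inferInstanceAs (LocallyOfFiniteType (𝟙 S)), inferInstanceAs (QuasiCompact (𝟙 S))⟩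
    (fun X Y h h' => by
      haveI := h.1; haveI := h.2; haveI := h'.1; haveI := h'.2
      exact ⟨inferInstanceAs (LocallyOfFiniteType (pullback.fst X.hom Y.hom ≫ X.hom)),
        inferInstanceAs (QuasiCompact (pullback.fst X.hom Y.hom ≫ X.hom))⟩) hW (N + 1)
  haveI : LocallyOfFiniteType (Red.bc g (src W (N + 1))).hom :=
    inferInstanceAs (LocallyOfFiniteType (pullback.snd (src W (N + 1)).hom g))
  haveI : QuasiCompact (Red.bc g (src W (N + 1))).hom :=
    inferInstanceAs (QuasiCompact (pullback.snd (src W (N + 1)).hom g))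
  have hrange : Set.range (F.map (hom (cgen a b) (N + 1))).left = Z :=
    range_eq_of_vals _ hZ fun x => (hZV x).trans (by rw [hv]; rfl)
  exact ⟨N, _, hv, hrange ▸ hZ, fun hA => hrange ▸ hconn hA⟩

/-- Smoothness over the generic geometric point of words in commutators. -/
theorem smooth_src {K : Type u} [Field K] (g : Spec (CommRingCat.of K) ⟶ S) {A B : Over S}
    (hA : Smooth (Red.bc g A).hom) (hB : Smooth (Red.bc g B).hom) (n : ℕ) :
    Smooth (Red.bc g (src ((A ⊗ B) ⊗ (A ⊗ B)) n)).hom :=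
  src_prop (P := fun X : Over S => Smooth (Red.bc g X).hom) (Spread.bc_unit_prop g)
    (fun X Y h h' => Spread.bc_tensor_prop g h h')
    (Spread.bc_tensor_prop g (Spread.bc_tensor_prop g hA hB) (Spread.bc_tensor_prop g hA hB)) n

theorem src_lfp {A B : Over S} [LocallyOfFinitePresentation A.hom] [QuasiCompact A.hom]
    [LocallyOfFinitePresentation B.hom] [QuasiCompact B.hom] (n : ℕ) :
    LocallyOfFinitePresentation (src ((A ⊗ B) ⊗ (A ⊗ B)) n).hom ∧ QuasiCompact (src ((A ⊗ B) ⊗ (A ⊗ B)) n).hom :=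
  src_prop (P := fun X : Over S => LocallyOfFinitePresentation X.hom ∧ QuasiCompact X.hom)
    ⟨inferInstanceAs (LocallyOfFinitePresentation (𝟙 S)), inferInstanceAs (QuasiCompact (𝟙 S))⟩
    (fun X Y h h' => by
      haveI := h.1; haveI := h.2; haveI := h'.1; haveI := h'.2
      exact ⟨inferInstanceAs (LocallyOfFinitePresentation (pullback.fst X.hom Y.hom ≫ X.hom)),
        inferInstanceAs (QuasiCompact (pullback.fst X.hom Y.hom ≫ X.hom))⟩)
    ⟨inferInstanceAs (LocallyOfFinitePresentation (pullback.fst (pullback.fst A.hom B.hom ≫ A.hom)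
      (pullback.fst A.hom B.hom ≫ A.hom) ≫ (pullback.fst A.hom B.hom ≫ A.hom))),
     inferInstanceAs (QuasiCompact (pullback.fst (pullback.fst A.hom B.hom ≫ A.hom)
      (pullback.fst A.hom B.hom ≫ A.hom) ≫ (pullback.fst A.hom B.hom ≫ A.hom)))⟩ n

/-- The fibre of the swept out subgroup is inside every subgroup containing the commutators. -/
theorem minimal {G A B : Over S} [GrpObj G] (a : A ⟶ G) (b : B ⟶ G) (N : ℕ) {U : Scheme.{u}} (io : U ⟶ S)
    {D : Over U} (d : D ⟶ Red.bc io G) (p : Red.bc io (src ((A ⊗ B) ⊗ (A ⊗ B)) N) ⟶ D) [Surjective p.left]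
    (hpd : p ≫ d = (Over.pullback io).map (hom (cgen a b) N)) (s : U)
    [Smooth (D.hom.fiberToSpecResidueField s)] (Γ : Over (Spec (U.residueField s))) [GrpObj Γ]
    (i : Γ ⟶ Red.bc (U.fromSpecResidueField s) (Red.bc io G)) [IsMonHom i] [IsClosedImmersion i.left]
    (hab : ∀ (T : Over (Spec (U.residueField s))) (x : T ⟶ Red.bc (U.fromSpecResidueField s) (Red.bc io A))
      (y : T ⟶ Red.bc (U.fromSpecResidueField s) (Red.bc io B)), ∃ z : T ⟶ Γ,
        z ≫ i = ⁅x ≫ (Over.pullback (U.fromSpecResidueField s)).map ((Over.pullback io).map a),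
          y ≫ (Over.pullback (U.fromSpecResidueField s)).map ((Over.pullback io).map b)⁆) :
    ∃ j : Red.bc (U.fromSpecResidueField s) D ⟶ Γ, j ≫ i = (Over.pullback (U.fromSpecResidueField s)).map d := by
  let Fs := Over.pullback (U.fromSpecResidueField s)
  obtain ⟨z, hz⟩ := exists_lift_words₂ (Over.pullback io) Fs i a b hab N
  haveI : Smooth (Red.bc (U.fromSpecResidueField s) D).hom := ‹Smooth (D.hom.fiberToSpecResidueField s)›
  haveI : IsReduced (Red.bc (U.fromSpecResidueField s) D).left :=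
    GrpSchLib.isReduced_of_smooth_field (Red.bc (U.fromSpecResidueField s) D).hom
  haveI : Surjective (Fs.map p).left := MorphismProperty.baseChange_map (P := @Surjective) _ p inferInstance
  have e : Fs.map p ≫ Fs.map d = z ≫ i := by
    rw [← Fs.map_comp, hpd]
    exact hz.symm
  refine Image.factor_reduced _ i ?_
  rintro _ ⟨x, rfl⟩
  obtain ⟨w, rfl⟩ := (Fs.map p).left.surjective x
  exact ⟨z.left w, (congrArg (fun m => m.left w) e).symm⟩

end Base

end Groth.Agent.CommSub.Fibres
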