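import Groth.Agent.CommSub.Components
import Groth.Agent.CommSub.FieldGen
import Groth.Agent.CommSub.Fibres

/-!
# The subgroup generated by a connected family through the unit
-/

set_option autoImplicit false
set_option linter.all false
set_option backward.isDefEq.respectTransparency false
set_option backward.isDefEq.respectTransparency.types false

universe u

open CategoryTheory Limits AlgebraicGeometry MonoidalCategory CartesianMonoidalCategory MonObj GrpObj
open TopologicalSpace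
open Groth.Agent.AGFLib.Gen Groth.Agent.CommSub.Words
open scoped Pointwise CategoryTheory.MonObj

namespace Groth.Agent.CommSub.ConnFamily

variable {k : Type u} [Field k] [IsAlgClosed k]

local notation "PT" => 𝟙_ (Over (Spec (CommRingCat.of k)))

variable {G X : Over (Spec (CommRingCat.of k))} [GrpObj G] [LocallyOfFiniteType G.hom]

/-- The values of a morphism on an irreducible closed set form a family. -/
theorem isFamily_image [LocallyOfFiniteType X.hom] [QuasiCompact X.hom] (f : X ⟶ G) {T : Set X.left}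
    (hT : IsClosed T) (hi : IsIrreducible T) : IsFamily ((· ≫ f) '' {x : PT ⟶ X | cp x ∈ T}) := by
  let I := Scheme.IdealSheafData.vanishingIdeal (⟨T, hT⟩ : Closeds X.left)
  let W : Over (Spec (CommRingCat.of k)) := Over.mk (I.subschemeι ≫ X.hom)
  let i : W ⟶ X := Over.homMk I.subschemeι rfl
  haveI : IsClosedImmersion i.left := inferInstanceAs (IsClosedImmersion I.subschemeι)
  haveI : IsAffineHom I.subschemeι := inferInstance
  haveI : LocallyOfFiniteType W.hom := inferInstanceAs (LocallyOfFiniteType (I.subschemeι ≫ X.hom))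
  haveI : QuasiCompact W.hom := inferInstanceAs (QuasiCompact (I.subschemeι ≫ X.hom))
  have hr : Set.range i.left = T := H23.RedSub.range_vanishingIdeal _
  haveI : IrreducibleSpace W.left := by
    have hc := i.left.isClosedEmbedding
    obtain ⟨t₀, ht₀⟩ : hi.genericPoint ∈ Set.range i.left := hr.ge (hi.isGenericPoint_genericPoint hT).mem
    have : closure ({t₀} : Set W.left) = Set.univ := Set.eq_univ_of_forall fun t =>
      (hc.isInducing.specializes_iff.mp
        (ht₀ ▸ (hi.isGenericPoint_genericPoint hT).specializes (hr.le ⟨t, rfl⟩))).mem_closure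
    rw [irreducibleSpace_def, Set.top_eq_univ, ← this]
    exact isIrreducible_singleton.closure
  refine ⟨W, inferInstance, inferInstance, inferInstance, i ≫ f, ?_⟩
  ext g
  constructor
  · rintro ⟨w, rfl⟩
    exact ⟨w ≫ i, hr.le ⟨cp w, rfl⟩, Category.assoc _ _ _⟩
  · rintro ⟨x, hx, rfl⟩
    obtain ⟨y, hy⟩ := hr.ge hx
    haveI : JacobsonSpace W.left := LocallyOfFiniteType.jacobsonSpace W.hom
    have hyc : IsClosed ({y} : Set W.left) := by
      have hxc : IsClosed ({cp x} : Set X.left) :=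
        (pointEquivClosedPoint X.hom ⟨x.left, Over.w x⟩).2
      have := hxc.preimage i.left.continuous
      rwa [← hy, ← Set.image_singleton, Set.preimage_image_eq _ i.left.isClosedEmbedding.injective] at this
    obtain ⟨w, rfl⟩ := exists_cp hyc
    refine ⟨w, ?_⟩
    show w ≫ i ≫ f = x ≫ f
    rw [← Category.assoc, cp_injective (g := w ≫ i) (h := x) hy]

/-- The subgroup generated by a connected family through the unit is closed and covered by bounded words. -/
theorem exists_bound_qc [QuasiCompact G.hom] [LocallyOfFiniteType X.hom] [QuasiCompact X.hom]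
    [ConnectedSpace X.left] (f : X ⟶ G) (x₁ : PT ⟶ X) (hx₁ : x₁ ≫ f = 1) :
    ∃ (K : ℕ) (Z : Set G.left), IsClosed Z ∧
      (∀ g : PT ⟶ G, cp g ∈ Z ↔ g ∈ Subgroup.closure (vals PT f)) ∧
      ∀ g ∈ Subgroup.closure (vals PT f), g ∈ (vals PT f * (vals PT f)⁻¹) ^ K := by
  classical
  haveI : IsLocallyNoetherian X.left := LocallyOfFiniteType.isLocallyNoetherian X.hom
  haveI : CompactSpace X.left := (quasiCompact_iff_compactSpace X.hom).mp inferInstance
  haveI : AlgebraicGeometry.IsNoetherian X.left := {}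
  haveI : JacobsonSpace X.left := LocallyOfFiniteType.jacobsonSpace X.hom
  haveI : Finite (irreducibleComponents X.left) := NoetherianSpace.finite_irreducibleComponents.to_subtype
  let J := {T : irreducibleComponents X.left // ∃ x : PT ⟶ X, cp x ∈ T.1}
  let P : J → Set (PT ⟶ G) := fun T => (· ≫ f) '' {x : PT ⟶ X | cp x ∈ T.1.1}
  have hP : ∀ T : J, IsFamily (P T * (P T)⁻¹) := fun T =>
    (isFamily_image f (isClosed_of_mem_irreducibleComponents _ T.1.2) T.1.2.1).mul
      (isFamily_image f (isClosed_of_mem_irreducibleComponents _ T.1.2) T.1.2.1).inv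
  have h1 : ∀ T : J, (1 : PT ⟶ G) ∈ P T * (P T)⁻¹ := fun T => by
    obtain ⟨x, hx⟩ := T.2
    exact ⟨x ≫ f, ⟨x, hx, rfl⟩, (x ≫ f)⁻¹, Set.inv_mem_inv.mpr ⟨x, hx, rfl⟩, mul_inv_cancel _⟩
  obtain ⟨N, Z, hZc, -, hZ, hb⟩ := exists_generated_families (fun T : J => P T * (P T)⁻¹) hP h1
  let H : Subgroup (PT ⟶ G) := Subgroup.closure (⋃ T : J, P T * (P T)⁻¹)
  -- every value lies in `H`
  let Good : irreducibleComponents X.left → Prop := fun T => ∀ x : PT ⟶ X, cp x ∈ T.1 → x ≫ f ∈ H
  have hstep : ∀ (T : irreducibleComponents X.left) (s : PT ⟶ X), cp s ∈ T.1 → s ≫ f ∈ H → Good T := by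
    intro T s hs hsH x hx
    have : (x ≫ f) * (s ≫ f)⁻¹ ∈ H := Subgroup.subset_closure (Set.mem_iUnion.mpr
      ⟨⟨T, s, hs⟩, x ≫ f, ⟨x, hx, rfl⟩, _, Set.inv_mem_inv.mpr ⟨s, hs, rfl⟩, rfl⟩)
    have := mul_mem this hsH
    rwa [inv_mul_cancel_right] at this
  let A : Set X.left := ⋃ T : {T // Good T}, T.1.1
  let B : Set X.left := ⋃ T : {T // ¬ Good T}, T.1.1
  have hA : IsClosed A := isClosed_iUnion_of_finite fun T => isClosed_of_mem_irreducibleComponents _ T.1.2
  have hB : IsClosed B := isClosed_iUnion_of_finite fun T => isClosed_of_mem_irreducibleComponents _ T.1.2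
  have hdisj : A ∩ B = ∅ := Set.eq_empty_iff_forall_notMem.mpr fun z hz => by
    obtain ⟨c, hc, hcc⟩ := nonempty_inter_closedPoints (Z := A ∩ B) ⟨z, hz⟩ (hA.inter hB).isLocallyClosed
    obtain ⟨s, rfl⟩ := exists_cp hcc
    obtain ⟨⟨T, hT⟩, hsT⟩ := Set.mem_iUnion.mp hc.1
    obtain ⟨⟨T', hT'⟩, hsT'⟩ := Set.mem_iUnion.mp hc.2
    exact hT' (hstep T' s hsT' (hT s hsT))
  have hcov : ∀ z, z ∈ A ∨ z ∈ B := fun z => by
    let T : irreducibleComponents X.left := ⟨irreducibleComponent z, irreducibleComponent_mem_irreducibleComponents z⟩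
    by_cases hT : Good T
    · exact Or.inl (Set.mem_iUnion.mpr ⟨⟨T, hT⟩, mem_irreducibleComponent⟩)
    · exact Or.inr (Set.mem_iUnion.mpr ⟨⟨T, hT⟩, mem_irreducibleComponent⟩)
  have hclopen : IsClopen A := by
    refine ⟨hA, ?_⟩
    have : A = Bᶜ := Set.ext fun z => ⟨fun hz hz' => (Set.eq_empty_iff_forall_notMem.mp hdisj z) ⟨hz, hz'⟩,
      fun hz => (hcov z).resolve_right hz⟩
    rw [this]
    exact hB.isOpen_compl
  have hne : A.Nonempty := by
    refine ⟨cp x₁, Set.mem_iUnion.mpr ⟨⟨⟨irreducibleComponent (cp x₁), irreducibleComponent_mem_irreducibleComponents _⟩,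
      hstep _ x₁ mem_irreducibleComponent (by rw [hx₁]; exact one_mem _)⟩, mem_irreducibleComponent⟩⟩
  have hall : ∀ x : PT ⟶ X, x ≫ f ∈ H := fun x => by
    obtain ⟨⟨T, hT⟩, hxT⟩ := Set.mem_iUnion.mp ((hclopen.eq_univ hne).ge (Set.mem_univ (cp x)))
    exact hT x hxT
  have hsub : (⋃ T : J, P T * (P T)⁻¹) ⊆ vals PT f * (vals PT f)⁻¹ := Set.iUnion_subset fun T =>
    Set.mul_subset_mul (Set.image_subset_range _ _) (Set.inv_subset_inv.mpr (Set.image_subset_range _ _))
  have hH : H = Subgroup.closure (vals PT f) := by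
    refine le_antisymm ((Subgroup.closure_le _).mpr ?_) ((Subgroup.closure_le _).mpr (by rintro _ ⟨x, rfl⟩; exact hall x))
    intro g hg
    obtain ⟨a, ha, b, hb, rfl⟩ := hsub hg
    exact mul_mem (Subgroup.subset_closure ha) ((Subgroup.inv_mem_iff _).mp (Subgroup.subset_closure hb))
  refine ⟨2 * N, Z, hZc, fun g => (hZ g).trans (by rw [← hH]), fun g hg => ?_⟩
  rw [pow_mul]
  have hQ1 : (1 : PT ⟶ G) ∈ vals PT f * (vals PT f)⁻¹ :=
    ⟨x₁ ≫ f, ⟨x₁, rfl⟩, (x₁ ≫ f)⁻¹, Set.inv_mem_inv.mpr ⟨x₁, rfl⟩, mul_inv_cancel _⟩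
  have hC : (⋃ T : J, P T * (P T)⁻¹) ∪ {1} ⊆ vals PT f * (vals PT f)⁻¹ :=
    Set.union_subset hsub (Set.singleton_subset_iff.mpr hQ1)
  refine Set.pow_subset_pow_left ?_ (hb g (hH.symm ▸ hg : g ∈ H))
  rw [pow_two]
  refine Set.mul_subset_mul hC ?_
  have : (vals PT f * (vals PT f)⁻¹)⁻¹ = vals PT f * (vals PT f)⁻¹ := by rw [_root_.mul_inv_rev, _root_.inv_inv]
  rw [← this]
  exact Set.inv_subset_inv.mpr hC

/-- The same without quasi-compactness of the group. -/
theorem exists_bound [LocallyOfFiniteType X.hom] [QuasiCompact X.hom] [IsReduced X.left] [ConnectedSpace X.left]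
    (f : X ⟶ G) (x₁ : PT ⟶ X) (hx₁ : x₁ ≫ f = 1) :
    ∃ (K : ℕ) (Z : Set G.left), IsClosed Z ∧
      (∀ g : PT ⟶ G, cp g ∈ Z ↔ g ∈ Subgroup.closure (vals PT f)) ∧
      ∀ g ∈ Subgroup.closure (vals PT f), g ∈ (vals PT f * (vals PT f)⁻¹) ^ K := by
  haveI := GrpSchLib.AntiAffine.isSeparated_grp G
  haveI : LocallyOfFiniteType (PT).hom := inferInstanceAs (LocallyOfFiniteType (𝟙 (Spec (CommRingCat.of k))))
  haveI : QuasiCompact (PT).hom := inferInstanceAs (QuasiCompact (𝟙 (Spec (CommRingCat.of k))))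
  have hbot : vals PT (η[G]) = SetLike.coe (⊥ : Subgroup (PT ⟶ G)) := by
    ext g
    constructor
    · rintro ⟨w, rfl⟩
      simp [MonObj.one_eq_one]
    · intro hg
      rw [SetLike.mem_coe, Subgroup.mem_bot] at hg
      exact ⟨𝟙 _, by show 𝟙 _ ≫ η[G] = g; rw [Category.id_comp, MonObj.one_eq_one, hg]⟩
  obtain ⟨D, strD, d, hd, hdci, hDlft, hDqc, -, hr1⟩ := Components.exists_qc_subgroup η[G] ⊥ hbot
  haveI := hd
  haveI := hdci
  obtain ⟨f', hf'⟩ := Image.factor_reduced f d (subset_trans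
    ((isPreconnected_range f.left.continuous).subset_connectedComponent ⟨cp x₁, by rw [← hx₁]; rfl⟩) hr1)
  haveI : Mono d := H23.AMonExt.mono_of_isClosedImmersion d
  obtain ⟨K, Z, hZc, hZ, hb⟩ := exists_bound_qc f' x₁ (by
    rw [← cancel_mono d, Category.assoc, hf', hx₁, MonObj.one_comp])
  let ψ : (PT ⟶ D) →* (PT ⟶ G) := MonoidHom.mk' (fun x => x ≫ d) fun x y => MonObj.mul_comp x y d
  have hv : ψ '' vals PT f' = vals PT f := by
    ext g
    constructor
    · rintro ⟨_, ⟨x, rfl⟩, rfl⟩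
      exact ⟨x, by show x ≫ f = (x ≫ f') ≫ d; rw [Category.assoc, hf']⟩
    · rintro ⟨x, rfl⟩
      exact ⟨x ≫ f', ⟨x, rfl⟩, by show (x ≫ f') ≫ d = x ≫ f; rw [Category.assoc, hf']⟩
  have hcl : Subgroup.map ψ (Subgroup.closure (vals PT f')) = Subgroup.closure (vals PT f) := by
    rw [MonoidHom.map_closure, hv]
  refine ⟨K, d.left '' Z, d.left.isClosedEmbedding.isClosedMap _ hZc, fun g => ?_, fun g hg => ?_⟩
  · rw [← hcl]
    constructor
    · rintro ⟨z, hz, hzg⟩
      obtain ⟨x, rfl⟩ := exists_of_mem_range d g ⟨z, hzg⟩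
      have : cp x = z := d.left.isClosedEmbedding.injective (by rw [hzg]; rfl)
      exact ⟨x, (hZ x).mp (this ▸ hz), rfl⟩
    · rintro ⟨x, hx, rfl⟩
      exact ⟨cp x, (hZ x).mpr hx, rfl⟩
  · rw [← hcl] at hg
    obtain ⟨x, hx, rfl⟩ := hg
    have := Set.mem_image_of_mem ψ (hb x hx)
    rwa [Set.image_pow, Set.image_mul, Set.image_inv, hv] at this

/-- A closed set with the same rational points as the image of a quasi-compact scheme is that image. -/
theorem range_eq_of_vals {W : Over (Spec (CommRingCat.of k))} [LocallyOfFiniteType W.hom] [QuasiCompact W.hom]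
    (f : W ⟶ G) {Z : Set G.left} (hZ : IsClosed Z) (h : ∀ g : PT ⟶ G, cp g ∈ Z ↔ g ∈ vals PT f) :
    Set.range f.left = Z := by
  haveI := GrpSchLib.AntiAffine.isSeparated_grp G
  haveI : JacobsonSpace G.left := LocallyOfFiniteType.jacobsonSpace G.hom
  refine Set.Subset.antisymm (PtsSubgroup.range_subset f hZ fun w => (h _).mpr ⟨w, rfl⟩) fun z hz => ?_
  by_contra hzr
  haveI : IsLocallyNoetherian G.left := LocallyOfFiniteType.isLocallyNoetherian G.hom
  haveI : LocallyOfFiniteType (f.left ≫ G.hom) := by rw [Over.w f]; infer_instance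
  haveI : LocallyOfFiniteType f.left := locallyOfFiniteType_of_comp f.left G.hom
  haveI : QuasiCompact (f.left ≫ G.hom) := by rw [Over.w f]; infer_instance
  haveI : QuasiCompact f.left := QuasiCompact.of_comp f.left G.hom
  haveI : LocallyOfFinitePresentation f.left := inferInstance
  have hc : Topology.IsLocallyConstructible (Set.range f.left) := by
    rw [← Set.image_univ]
    exact f.left.isLocallyConstructible_image Topology.IsLocallyConstructible.univ
  obtain ⟨U, hU, hUo, hUc⟩ := hc z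
  obtain ⟨T, hT1, hT2, hT3⟩ := (Fibres.exists_isLocallyClosed hUc).2 ⟨z, mem_of_mem_nhds hU⟩ hzr
  have hT1' : IsLocallyClosed (Subtype.val '' T) :=
    hT1.image Topology.IsInducing.subtypeVal (by rw [Subtype.range_coe]; exact hUo.isLocallyClosed)
  obtain ⟨y, hy, hyc⟩ := nonempty_inter_closedPoints (Z := Subtype.val '' T ∩ Z) ⟨z, ⟨_, hT2, rfl⟩, hz⟩
    (hT1'.inter hZ.isLocallyClosed)
  obtain ⟨g, rfl⟩ := exists_cp hyc
  obtain ⟨w, hw⟩ := (h g).mp hy.2
  obtain ⟨t, ht, htg⟩ := hy.1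
  exact hT3 ht ⟨cp w, by rw [htg, ← hw]; rfl⟩

end Groth.Agent.CommSub.ConnFamily
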