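import Groth.Agent.CommSub.Fibres

/-!
# The words sweeping out the derived series
-/

set_option autoImplicit false
set_option linter.all false
set_option backward.isDefEq.respectTransparency false
set_option backward.isDefEq.respectTransparency.types false
set_option synthInstance.maxHeartbeats 200000
set_option maxHeartbeats 1600000

universe u

open CategoryTheory Limits AlgebraicGeometry MonoidalCategory CartesianMonoidalCategory MonObj GrpObj
open Groth.Agent.AGFLib.Gen Groth.Agent.CommSub.Words
open scoped CategoryTheory.MonObj commutatorElement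

namespace Groth.Agent.CommSub.Derived

variable {S : Scheme.{u}} [IsIntegral S]

/-- A family whose values on the generic geometric fibre form a normal closed subgroup. -/
structure Stage (G : Over S) [GrpObj G] where
  W : Over S
  φ : W ⟶ G
  lfp : LocallyOfFinitePresentation W.hom
  qc : QuasiCompact W.hom
  smooth : Smooth (Red.bc (Red.geomPt (genericPoint S)) W).hom
  closed : IsClosed (Set.range ((Over.pullback (Red.geomPt (genericPoint S))).map φ).left)
  V : Subgroup (𝟙_ (Over (Spec (CommRingCat.of (AlgebraicClosure (S.residueField (genericPoint S)))))) ⟶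
    Red.bc (Red.geomPt (genericPoint S)) G)
  vals_eq : vals (𝟙_ (Over (Spec (CommRingCat.of (AlgebraicClosure (S.residueField (genericPoint S)))))))
    (G := Red.bc (Red.geomPt (genericPoint S)) G) ((Over.pullback (Red.geomPt (genericPoint S))).map φ) = SetLike.coe V
  conj : IsConjStable φ

variable {G : Over S} [GrpObj G] [LocallyOfFinitePresentation G.hom] [QuasiCompact G.hom] [QuasiSeparated G.hom]

/-- The next stage: words in commutators of the values. -/
theorem exists_next (t : Stage G) :
    ∃ (t' : Stage G) (N : ℕ) (e : t'.W = src ((t.W ⊗ t.W) ⊗ (t.W ⊗ t.W)) (N + 1)),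
      t'.φ = eqToHom e ≫ hom (cgen t.φ t.φ) (N + 1) := by
  let g := Red.geomPt (genericPoint S)
  let F := Over.pullback g
  haveI := t.lfp
  haveI := t.qc
  haveI := t.smooth
  haveI : LocallyOfFiniteType (Red.bc g G).hom := inferInstanceAs (LocallyOfFiniteType (pullback.snd G.hom g))
  haveI : QuasiCompact (Red.bc g G).hom := inferInstanceAs (QuasiCompact (pullback.snd G.hom g))
  haveI : QuasiCompact (Red.bc g t.W).hom := inferInstanceAs (QuasiCompact (pullback.snd t.W.hom g))
  obtain ⟨D, str, d, p, hd, hdci, hDlft, hDqc, hpd, hrange, hvals, hnorm⟩ :=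
    Image.exists_subgroup (F.map t.φ) t.closed t.V t.vals_eq
  letI := str
  haveI := hd
  haveI := hdci
  haveI : Mono d := H23.AMonExt.mono_of_isClosedImmersion d
  have hn := hnorm (Spread.isConjStable_map g t.conj)
  have hv := hvals.trans t.vals_eq.symm
  obtain ⟨N, V, hV, hclosed, -⟩ := Fibres.exists_word g t.φ t.φ d d hv hv (Or.inr ⟨hn, hn⟩)
  obtain ⟨hlfp, hqc⟩ := Fibres.src_lfp (S := S) (A := t.W) (B := t.W) (N + 1)
  exact ⟨⟨_, hom (cgen t.φ t.φ) (N + 1), hlfp, hqc, Fibres.smooth_src g t.smooth t.smooth (N + 1), hclosed, V, hV,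
    (t.conj.cgen t.conj).hom (N + 1)⟩, N, rfl, (Category.id_comp _).symm⟩

/-- The whole group. -/
noncomputable def stage₀ (hsm : Smooth (Red.bc (Red.geomPt (genericPoint S)) G).hom) : Stage G where
  W := G
  φ := 𝟙 G
  lfp := inferInstance
  qc := inferInstance
  smooth := hsm
  closed := by
    have h : Set.range ((Over.pullback (Red.geomPt (genericPoint S))).map (𝟙 G)).left = Set.univ := by
      rw [CategoryTheory.Functor.map_id]
      exact Set.range_id
    exact h ▸ isClosed_univ
  V := ⊤
  vals_eq := Set.eq_univ_of_forall fun x => ⟨x, by simp⟩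
  conj := isConjStable_id

/-- The stages of the derived series. -/
noncomputable def stage (hsm : Smooth (Red.bc (Red.geomPt (genericPoint S)) G).hom) : ℕ → Stage G
  | 0 => stage₀ hsm
  | p + 1 => (exists_next (stage hsm p)).choose

/-- A commutator of two values is a value of the next stage. -/
theorem exists_cm (hsm : Smooth (Red.bc (Red.geomPt (genericPoint S)) G).hom) (p : ℕ) :
    ∃ N, ∃ e : (stage hsm (p + 1)).W = src (((stage hsm p).W ⊗ (stage hsm p).W) ⊗ ((stage hsm p).W ⊗ (stage hsm p).W))
      (N + 1), (stage hsm (p + 1)).φ = eqToHom e ≫ hom (cgen (stage hsm p).φ (stage hsm p).φ) (N + 1) :=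
  (exists_next (stage hsm p)).choose_spec

theorem surjective_tensorHom {k : Scheme.{u}} {A A' B B' : Over k} (p : A ⟶ A') (q : B ⟶ B') [Surjective p.left]
    [Surjective q.left] : Surjective (p ▷ B ≫ A' ◁ q).left := by
  haveI : Surjective (p ▷ B).left :=
    MorphismProperty.of_isPullback (P := @Surjective)
      (((FpqcDescLib.isPullback_whiskerRight p B).map (Over.forget _)).flip) ‹_›
  haveI : Surjective (A' ◁ q).left :=
    MorphismProperty.of_isPullback (P := @Surjective)
      (((FpqcDescLib.isPullback_whiskerLeft q A').map (Over.forget _)).flip) ‹_›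
  rw [Over.comp_left]
  infer_instance

end Groth.Agent.CommSub.Derived
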