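import Groth.Agent.CommSub.Fibres
import Groth.Agent.AlgSpDec.ConstrDescent

/-!
# Comparing the generic fibre with the generic geometric fibre, and shrinking the base
-/

set_option autoImplicit false
set_option linter.all false
set_option backward.isDefEq.respectTransparency false
set_option backward.isDefEq.respectTransparency.types false

universe u

open CategoryTheory Limits AlgebraicGeometry MonoidalCategory CartesianMonoidalCategory MonObj GrpObj
open Topology

namespace Groth.Agent.CommSub.Generic

variable {S : Scheme.{u}}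

theorem range_map {T : Scheme.{u}} (g : T ⟶ S) {X Y : Over S} (f : X ⟶ Y) :
    Set.range ((Over.pullback g).map f).left = pullback.fst Y.hom g ⁻¹' Set.range f.left := by
  have hsq := GrpSchLib.HomSplitLocal.isPullback_map f g
  ext y
  constructor
  · rintro ⟨x, rfl⟩
    exact ⟨pullback.fst X.hom g x, congrArg (fun m => m x) hsq.w⟩
  · rintro ⟨x, hx⟩
    obtain ⟨z, -, hz⟩ := Scheme.Pullback.exists_preimage_pullback (f := f.left) (g := pullback.fst Y.hom g) x y hx
    refine ⟨hsq.isoPullback.inv z, ?_⟩
    show (hsq.isoPullback.inv ≫ ((Over.pullback g).map f).left) z = y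
    rw [hsq.isoPullback_inv_snd]
    exact hz

section Tower

variable {T T' : Scheme.{u}} (φ : T' ⟶ T) (g : T ⟶ S)

/-- The projection between two base changes. -/
noncomputable def π (X : Over S) : pullback X.hom (φ ≫ g) ⟶ pullback X.hom g :=
  pullback.lift (pullback.fst X.hom _) (pullback.snd X.hom _ ≫ φ) (by rw [Category.assoc, pullback.condition])

theorem π_fst (X : Over S) : π φ g X ≫ pullback.fst X.hom g = pullback.fst X.hom (φ ≫ g) := pullback.lift_fst _ _ _

theorem isPullback_π (X : Over S) :
    IsPullback (π φ g X) (pullback.snd X.hom (φ ≫ g)) (pullback.snd X.hom g) φ := by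
  refine IsPullback.of_right ?_ (pullback.lift_snd _ _ _) (IsPullback.of_hasPullback X.hom g)
  rw [π_fst]
  exact IsPullback.of_hasPullback X.hom (φ ≫ g)

theorem surjective_π [Surjective φ] (X : Over S) : Surjective (π φ g X) :=
  MorphismProperty.of_isPullback (P := @Surjective) (isPullback_π φ g X).flip ‹_›

theorem universallyOpen_π [UniversallyOpen φ] (X : Over S) : UniversallyOpen (π φ g X) :=
  MorphismProperty.of_isPullback (P := @UniversallyOpen) (isPullback_π φ g X).flip ‹_›

theorem preimage_π {X Y : Over S} (f : X ⟶ Y) :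
    π φ g Y ⁻¹' Set.range ((Over.pullback g).map f).left = Set.range ((Over.pullback (φ ≫ g)).map f).left := by
  rw [range_map, range_map, ← Set.preimage_comp]
  congr 1
  funext y
  exact congrArg (fun m => m y) (π_fst φ g Y)

theorem range_subset [Surjective φ] {X W Y : Over S} (f : X ⟶ Y) (w : W ⟶ Y)
    (h : Set.range ((Over.pullback (φ ≫ g)).map f).left ⊆ Set.range ((Over.pullback (φ ≫ g)).map w).left) :
    Set.range ((Over.pullback g).map f).left ⊆ Set.range ((Over.pullback g).map w).left := by
  intro y hy
  obtain ⟨y', rfl⟩ := (surjective_π φ g Y).surj y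
  have : y' ∈ π φ g Y ⁻¹' Set.range ((Over.pullback g).map w).left := by
    rw [preimage_π]
    exact h (by rw [← preimage_π]; exact hy)
  exact this

end Tower

theorem prop_of_range {P : MorphismProperty Scheme.{u}} [P.IsStableUnderBaseChange] {X T : Scheme.{u}} (f : X ⟶ S)
    {U₀ : S.Opens} (t : T ⟶ S) (ht : Set.range t ⊆ (U₀ : Set S)) (h : P (f ∣_ U₀)) : P (pullback.snd f t) := by
  have hsq := (isPullback_morphismRestrict f U₀).flip
  let t' : T ⟶ U₀.toScheme := IsOpenImmersion.lift U₀.ι t (by rw [Scheme.Opens.range_ι]; exact ht)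
  have ht' : t' ≫ U₀.ι = t := IsOpenImmersion.lift_fac _ _ _
  let l : pullback f t ⟶ (f ⁻¹ᵁ U₀) := hsq.lift (pullback.fst f t) (pullback.snd f t ≫ t')
    (by rw [Category.assoc, ht', pullback.condition])
  refine MorphismProperty.of_isPullback (f' := l) (g' := pullback.snd f t) (f := t') (g := f ∣_ U₀) ?_ h
  refine IsPullback.of_right ?_ (hsq.lift_snd _ _ _) hsq
  rw [hsq.lift_fst, ht']
  exact IsPullback.of_hasPullback f t

/-- A containment of images over the generic point holds over a nonempty open. -/
theorem exists_open_range_subset [IsIntegral S] {X W Y : Over S} [LocallyOfFinitePresentation X.hom] [QuasiCompact X.hom]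
    [LocallyOfFinitePresentation W.hom] [QuasiCompact W.hom] [LocallyOfFiniteType Y.hom] [QuasiSeparated Y.hom]
    (f : X ⟶ Y) (w : W ⟶ Y) (h : ∀ x : X.left, X.hom x = genericPoint S → f.left x ∈ Set.range w.left) :
    ∃ U : S.Opens, genericPoint S ∈ U ∧ ∀ x : X.left, X.hom x ∈ U → f.left x ∈ Set.range w.left := by
  haveI : QuasiCompact w.left := by
    have : QuasiCompact (w.left ≫ Y.hom) := by rw [Over.w w]; infer_instance
    exact QuasiCompact.of_comp w.left Y.hom
  haveI : LocallyOfFinitePresentation w.left := by
    have : LocallyOfFinitePresentation (w.left ≫ Y.hom) := by rw [Over.w w]; infer_instance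
    exact S12442.locallyOfFinitePresentation_of_comp w.left Y.hom
  have hA : IsLocallyConstructible (f.left ⁻¹' (Set.range w.left)ᶜ) := by
    refine AlgSpDec.isLocallyConstructible_preimage_hom f.left ?_
    rw [← Set.image_univ]
    exact Spread.isLocallyConstructible_compl (w.left.isLocallyConstructible_image IsLocallyConstructible.univ)
  obtain ⟨O, hO, hOo, hOη⟩ := mem_nhds_iff.1 (FibDim.mem_nhds_of_generizations
    (Spread.isLocallyConstructible_compl (X.hom.isLocallyConstructible_image hA)) (y := genericPoint S) fun y hy => by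
      rintro ⟨z, hz, rfl⟩
      exact hz (h z (hy.antisymm ((genericPoint_spec S).specializes (Set.mem_univ _))).eq))
  exact ⟨⟨O, hOo⟩, hOη, fun x hx => by_contra fun hn => hO hx ⟨x, hn, rfl⟩⟩

end Groth.Agent.CommSub.Generic
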