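import Groth.Agent.CommSub.Words
import Groth.Agent.AGFLib.GenSubgroup
import Groth.Agent.GrpSchLib.MonoSubgroup
import Groth.Agent.GrpSchLib.AntiAffineHom
import Groth.Agent.GrpSchLib.SmoothReduced
import Groth.Agent.FpqcDescLib.Group
import Groth.Agent.H23.AMonExt
import Groth.Agent.H23.RedSub
import Groth.Agent.RedImage.Basic
import Groth.Prelude.Def_AlgGrp

/-!
# Subgroup schemes as schematic images of families closed under the group laws
-/

set_option autoImplicit false
set_option linter.all false
set_option backward.isDefEq.respectTransparency false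
set_option backward.isDefEq.respectTransparency.types false

universe u

open CategoryTheory Limits AlgebraicGeometry MonoidalCategory CartesianMonoidalCategory MonObj GrpObj
open Groth.Agent.AGFLib.Gen Groth.Agent.CommSub.Words
open scoped CategoryTheory.MonObj

namespace Groth.Agent.CommSub.Image

section Base

variable {S : Scheme.{u}} {G W D : Over S}

/-- A morphism from a reduced scheme with image in a closed subscheme factors through it. -/
theorem factor_reduced {X Y Z : Over S} [IsReduced X.left] (f : X ⟶ Z) (i : Y ⟶ Z) [IsClosedImmersion i.left]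
    (h : Set.range f.left ⊆ Set.range i.left) : ∃ b : X ⟶ Y, b ≫ i = f := by
  obtain ⟨b, hb⟩ := H23.RedSub.exists_lift_closed f.left i.left h
  exact ⟨Over.homMk b (by rw [← Over.w i, ← Category.assoc, hb, Over.w f]), Over.OverMorphism.ext hb⟩

theorem dominant_whiskerRight (p : W ⟶ D) [IsSchemeTheoreticallyDominant p.left] [QuasiCompact p.left]
    (X : Over S) [Flat X.hom] :
    IsSchemeTheoreticallyDominant (p ▷ X).left ∧ QuasiCompact (p ▷ X).left := by
  haveI : Flat (fst D X).left := by
    show Flat (pullback.fst D.hom X.hom)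
    exact MorphismProperty.pullback_fst _ _ inferInstance
  have h := ((FpqcDescLib.isPullback_whiskerRight p X).map (Over.forget _)).flip
  exact ⟨IsSchemeTheoreticallyDominant.of_isPullback (f := p.left) (g := (fst D X).left) h,
    MorphismProperty.of_isPullback (P := @QuasiCompact) h ‹_›⟩

theorem dominant_whiskerLeft (p : W ⟶ D) [IsSchemeTheoreticallyDominant p.left] [QuasiCompact p.left]
    (X : Over S) [Flat X.hom] :
    IsSchemeTheoreticallyDominant (X ◁ p).left ∧ QuasiCompact (X ◁ p).left := by
  haveI : Flat (snd X D).left := by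
    show Flat (pullback.snd X.hom D.hom)
    exact MorphismProperty.pullback_snd _ _ inferInstance
  have h := ((FpqcDescLib.isPullback_whiskerLeft p X).map (Over.forget _)).flip
  exact ⟨IsSchemeTheoreticallyDominant.of_isPullback (f := p.left) (g := (snd X D).left) h,
    MorphismProperty.of_isPullback (P := @QuasiCompact) h ‹_›⟩

variable [GrpObj G] (d : D ⟶ G) [IsClosedImmersion d.left] (p : W ⟶ D) [IsSchemeTheoreticallyDominant p.left]
  [QuasiCompact p.left]

/-- A closed subscheme dominated by a family closed under the group laws is a subgroup. -/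
theorem exists_group [Flat W.hom] [Flat D.hom] (hone : ∃ e : 𝟙_ (Over S) ⟶ D, e ≫ d = η[G])
    (hmul : ∃ m : W ⊗ W ⟶ D, m ≫ d = (fst W W ≫ p ≫ d) * (snd W W ≫ p ≫ d))
    (hinv : ∃ v : W ⟶ D, v ≫ d = (p ≫ d)⁻¹) : ∃ str : GrpObj D, @IsMonHom _ _ _ D G str.toMonObj _ d := by
  haveI : Mono d := H23.AMonExt.mono_of_isClosedImmersion d
  haveI := (dominant_whiskerRight p W).1
  haveI := (dominant_whiskerLeft p D).1
  haveI : IsSchemeTheoreticallyDominant (p ▷ W ≫ D ◁ p).left := by rw [Over.comp_left]; infer_instance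
  obtain ⟨e, he⟩ := hone
  obtain ⟨m, hm⟩ := hmul
  obtain ⟨v, hv⟩ := hinv
  obtain ⟨μ', hμ'⟩ := H23.AMonExt.exists_lift_over (p ▷ W ≫ D ◁ p) d ((fst D D ≫ d) * (snd D D ≫ d)) m (by
    rw [hm, MonObj.comp_mul]
    congr 1 <;> simp)
  obtain ⟨ι', hι'⟩ := H23.AMonExt.exists_lift_over p d d⁻¹ v (by rw [hv, GrpObj.comp_inv])
  exact GrpSchLib.exists_grpObj_of_mono d e he μ' hμ' ι' hι'

/-- It is normal when the family is stable under conjugation. -/
theorem isNormalHom [GrpObj D] [Flat G.hom] (h : IsConjStable (p ≫ d)) : AlgGrp.IsNormalHom d := by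
  obtain ⟨q, hq⟩ := h
  haveI := (dominant_whiskerLeft p G).1
  obtain ⟨c, hc⟩ := H23.AMonExt.exists_lift_over (G ◁ p) d (fst G D * (snd G D ≫ d) * (fst G D)⁻¹) (q ≫ p) (by
    rw [Category.assoc, hq, MonObj.comp_mul, MonObj.comp_mul, GrpObj.comp_inv, whiskerLeft_fst,
      whiskerLeft_snd_assoc])
  intro T g n
  exact ⟨lift g n ≫ c, by
    rw [Category.assoc, hc, MonObj.comp_mul, MonObj.comp_mul, GrpObj.comp_inv, lift_fst, lift_snd_assoc]⟩

end Base

section Field

variable {k : Type u} [Field k] [IsAlgClosed k]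

local notation "PT" => 𝟙_ (Over (Spec (CommRingCat.of k)))

variable {G : Over (Spec (CommRingCat.of k))} [GrpObj G] [LocallyOfFiniteType G.hom]

omit [GrpObj G] in
theorem cp_mem_of_vals {X Y : Over (Spec (CommRingCat.of k))} (f : X ⟶ G) (g : Y ⟶ G) {x : PT ⟶ G}
    (hx : x ∈ vals PT f) (h : Set.range f.left ⊆ Set.range g.left) : cp x ∈ Set.range g.left := by
  obtain ⟨w, rfl⟩ := hx
  exact h ⟨cp w, rfl⟩

/-- Rational points with values among those of `g` lie in a closed range. -/
theorem range_subset_of_vals {X Y : Over (Spec (CommRingCat.of k))} [LocallyOfFiniteType X.hom] (f : X ⟶ G)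
    (g : Y ⟶ G) (hg : IsClosed (Set.range g.left)) (h : vals PT f ⊆ vals PT g) :
    Set.range f.left ⊆ Set.range g.left := by
  have := eq_univ_of_forall_cp (hg.preimage f.left.continuous) fun x => cp_mem_of_vals g g (h ⟨x, rfl⟩) subset_rfl
  rintro _ ⟨x, rfl⟩
  exact this.ge (Set.mem_univ x)

/-- The values of two morphisms with the same range agree. -/
theorem vals_subset_of_range {X Y : Over (Spec (CommRingCat.of k))} [LocallyOfFiniteType Y.hom] (f : X ⟶ G)
    (g : Y ⟶ G) (h : Set.range f.left ⊆ Set.range g.left) : vals PT f ⊆ vals PT g := by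
  haveI := GrpSchLib.AntiAffine.isSeparated_grp G
  intro x hx
  exact exists_of_mem_range g x (cp_mem_of_vals f g hx h)

/-- The closed subgroup with given points, from a smooth family. -/
theorem exists_subgroup [QuasiCompact G.hom] {W : Over (Spec (CommRingCat.of k))} [Smooth W.hom]
    [QuasiCompact W.hom] (Φ : W ⟶ G) (hclosed : IsClosed (Set.range Φ.left)) (V : Subgroup (PT ⟶ G))
    (hV : vals PT Φ = V) :
    ∃ (D : Over (Spec (CommRingCat.of k))) (_ : GrpObj D) (d : D ⟶ G) (p : W ⟶ D), IsMonHom d ∧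
      IsClosedImmersion d.left ∧ LocallyOfFiniteType D.hom ∧ QuasiCompact D.hom ∧ p ≫ d = Φ ∧
      Set.range d.left = Set.range Φ.left ∧ vals PT d = (V : Set (PT ⟶ G)) ∧
      (IsConjStable Φ → AlgGrp.IsNormalHom d) := by
  haveI : IsReduced W.left := GrpSchLib.isReduced_of_smooth_field W.hom
  haveI := GrpSchLib.AntiAffine.isSeparated_grp G
  haveI : QuasiCompact Φ.left := by
    have : QuasiCompact (Φ.left ≫ G.hom) := by rw [Over.w Φ]; infer_instance
    exact QuasiCompact.of_comp Φ.left G.hom
  let D : Over (Spec (CommRingCat.of k)) := Over.mk (Φ.left.imageι ≫ G.hom)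
  let d : D ⟶ G := Over.homMk Φ.left.imageι rfl
  let p : W ⟶ D := Over.homMk Φ.left.toImage (by
    show Φ.left.toImage ≫ Φ.left.imageι ≫ G.hom = W.hom
    rw [Scheme.Hom.toImage_imageι_assoc, Over.w Φ])
  have hpd : p ≫ d = Φ := Over.OverMorphism.ext Φ.left.toImage_imageι
  haveI : IsClosedImmersion d.left := inferInstanceAs (IsClosedImmersion Φ.left.imageι)
  haveI : IsAffineHom Φ.left.imageι := inferInstance
  haveI : IsSchemeTheoreticallyDominant p.left := RedImage.isSchemeTheoreticallyDominant_toImage Φ.left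
  haveI : QuasiCompact p.left := by
    have : QuasiCompact (p.left ≫ d.left) := by rw [← Over.comp_left, hpd]; infer_instance
    exact QuasiCompact.of_comp p.left d.left
  haveI : LocallyOfFiniteType D.hom := inferInstanceAs (LocallyOfFiniteType (Φ.left.imageι ≫ G.hom))
  haveI : QuasiCompact D.hom := inferInstanceAs (QuasiCompact (Φ.left.imageι ≫ G.hom))
  have hrange : Set.range d.left = Set.range Φ.left := by
    refine Set.Subset.antisymm ?_ ?_
    · haveI : IsDominant p.left := inferInstance
      have hcl : IsClosed (d.left ⁻¹' Set.range Φ.left) := hclosed.preimage d.left.continuous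
      rintro _ ⟨x, rfl⟩
      refine (hcl.closure_subset_iff.mpr ?_ (p.left.denseRange x) : x ∈ d.left ⁻¹' Set.range Φ.left)
      rintro _ ⟨w, rfl⟩
      exact ⟨w, by rw [← hpd]; rfl⟩
    · rintro _ ⟨w, rfl⟩
      exact ⟨p.left w, by rw [← hpd]; rfl⟩
  have hvals : vals PT d = (V : Set (PT ⟶ G)) := hV ▸ Set.Subset.antisymm
    (vals_subset_of_range d Φ hrange.le) (vals_subset_of_range Φ d hrange.ge)
  have hfac : ∀ {X : Over (Spec (CommRingCat.of k))} [Smooth X.hom] (f : X ⟶ G), vals PT f ⊆ V →
      ∃ v : X ⟶ D, v ≫ d = f := fun {X} _ f hf => by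
    haveI : IsReduced X.left := GrpSchLib.isReduced_of_smooth_field X.hom
    exact factor_reduced f d (range_subset_of_vals f d d.left.isClosedEmbedding.isClosed_range (hvals ▸ hf))
  haveI : Smooth (𝟙_ (Over (Spec (CommRingCat.of k)))).hom := inferInstanceAs (Smooth (𝟙 _))
  haveI : Smooth (W ⊗ W).hom := inferInstanceAs (Smooth (pullback.fst W.hom W.hom ≫ W.hom))
  haveI : Flat D.hom := RedImage.flat_hom D
  haveI : Flat G.hom := RedImage.flat_hom G
  obtain ⟨str, hd⟩ := exists_group d p
    (hfac η[G] (by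
      rintro _ ⟨x, rfl⟩
      simp only [MonObj.one_eq_one, MonObj.comp_one]
      exact one_mem V))
    (by
      rw [hpd]
      refine hfac _ ?_
      rintro _ ⟨x, rfl⟩
      simp only [MonObj.comp_mul, ← Category.assoc]
      exact mul_mem (hV.le ⟨_, rfl⟩) (hV.le ⟨_, rfl⟩))
    (by
      rw [hpd]
      refine hfac _ ?_
      rintro _ ⟨x, rfl⟩
      simp only [GrpObj.comp_inv]
      exact inv_mem (hV.le ⟨_, rfl⟩))
  letI := str
  exact ⟨D, str, d, p, hd, inferInstance, inferInstance, inferInstance, hpd, hrange, hvals,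
    fun h => isNormalHom d p (hpd.symm ▸ h)⟩

end Field

end Groth.Agent.CommSub.Image
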