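import Groth.Agent.CommSub.Image
import Groth.Agent.GrpSchLib.FieldReduced

/-!
# Closed subgroups from their rational points
-/

set_option autoImplicit false
set_option linter.all false
set_option backward.isDefEq.respectTransparency false
set_option backward.isDefEq.respectTransparency.types false

universe u

open CategoryTheory Limits AlgebraicGeometry MonoidalCategory CartesianMonoidalCategory MonObj GrpObj
open Groth.Agent.AGFLib.Gen
open scoped CategoryTheory.MonObj

namespace Groth.Agent.CommSub.PtsSubgroup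

variable {k : Type u} [Field k] [IsAlgClosed k]

local notation "PT" => 𝟙_ (Over (Spec (CommRingCat.of k)))

/-- The range of a morphism lies in a closed set containing the images of the rational points. -/
theorem range_subset {X G : Over (Spec (CommRingCat.of k))} [LocallyOfFiniteType X.hom] (f : X ⟶ G) {Z : Set G.left}
    (hZ : IsClosed Z) (h : ∀ x : PT ⟶ X, cp (x ≫ f) ∈ Z) : Set.range f.left ⊆ Z := by
  rintro _ ⟨x, rfl⟩
  exact (eq_univ_of_forall_cp (hZ.preimage f.left.continuous) h).ge (Set.mem_univ x)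

/-- A closed set whose rational points form a subgroup is a reduced closed subgroup scheme. -/
theorem exists_subgroup {G : Over (Spec (CommRingCat.of k))} [GrpObj G] [LocallyOfFiniteType G.hom] {Z : Set G.left}
    (hZ : IsClosed Z) (V : Subgroup (PT ⟶ G)) (hV : ∀ g : PT ⟶ G, cp g ∈ Z ↔ g ∈ V) :
    ∃ (D : Over (Spec (CommRingCat.of k))) (_ : GrpObj D) (d : D ⟶ G), IsMonHom d ∧ IsClosedImmersion d.left ∧
      LocallyOfFiniteType D.hom ∧ IsReduced D.left ∧ Set.range d.left = Z := by
  let Cl : TopologicalSpace.Closeds G.left := ⟨Z, hZ⟩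
  let I := Scheme.IdealSheafData.vanishingIdeal Cl
  let D : Over (Spec (CommRingCat.of k)) := Over.mk (I.subschemeι ≫ G.hom)
  let d : D ⟶ G := Over.homMk I.subschemeι rfl
  haveI : IsClosedImmersion d.left := inferInstanceAs (IsClosedImmersion I.subschemeι)
  haveI : LocallyOfFiniteType D.hom := inferInstanceAs (LocallyOfFiniteType (I.subschemeι ≫ G.hom))
  haveI : IsReduced D.left := inferInstanceAs (IsReduced I.subscheme)
  haveI : IsReduced (D ⊗ D).left := GrpSchLib.isReduced_pullback_of_perfectField D.hom D.hom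
  haveI : IsReduced (𝟙_ (Over (Spec (CommRingCat.of k)))).left := inferInstanceAs (IsReduced (Spec (CommRingCat.of k)))
  haveI : LocallyOfFiniteType (D ⊗ D).hom :=
    inferInstanceAs (LocallyOfFiniteType (pullback.fst D.hom D.hom ≫ D.hom))
  haveI : LocallyOfFiniteType (𝟙_ (Over (Spec (CommRingCat.of k)))).hom :=
    inferInstanceAs (LocallyOfFiniteType (𝟙 (Spec (CommRingCat.of k))))
  have hr : Set.range d.left = Z := H23.RedSub.range_vanishingIdeal Cl
  haveI : Mono d := H23.AMonExt.mono_of_isClosedImmersion d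
  have hd : ∀ x : PT ⟶ D, x ≫ d ∈ V := fun x => (hV _).mp (hr.le ⟨cp x, rfl⟩)
  have hfac : ∀ {X : Over (Spec (CommRingCat.of k))} [IsReduced X.left] [LocallyOfFiniteType X.hom] (f : X ⟶ G),
      (∀ x : PT ⟶ X, x ≫ f ∈ V) → ∃ v : X ⟶ D, v ≫ d = f := fun {X} _ _ f hf =>
    Image.factor_reduced f d ((range_subset f hZ fun x => (hV _).mpr (hf x)).trans hr.ge)
  obtain ⟨e, he⟩ := hfac η[G] fun x => by
    rw [MonObj.one_eq_one, MonObj.comp_one]; exact one_mem V
  obtain ⟨m, hm⟩ := hfac ((fst D D ≫ d) * (snd D D ≫ d)) fun x => by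
    simp only [MonObj.comp_mul, ← Category.assoc]
    exact mul_mem (hd _) (hd _)
  obtain ⟨v, hv⟩ := hfac d⁻¹ fun x => by rw [GrpObj.comp_inv]; exact inv_mem (hd x)
  obtain ⟨str, hstr⟩ := GrpSchLib.exists_grpObj_of_mono d e he m hm v hv
  exact ⟨D, str, d, hstr, inferInstance, inferInstance, inferInstance, hr⟩

/-- Left translation by a rational point. -/
theorem comp_translate {G : Over (Spec (CommRingCat.of k))} [GrpObj G] (a : PT ⟶ G) {T : Over (Spec (CommRingCat.of k))}
    (t : T ⟶ G) : t ≫ ((λ_ G).inv ≫ (a ▷ G) ≫ μ[G]) = (toUnit T ≫ a) * t := by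
  have : t ≫ (λ_ G).inv ≫ a ▷ G = lift (toUnit T ≫ a) t := by
    apply CartesianMonoidalCategory.hom_ext
    · simp only [Category.assoc, whiskerRight_fst, lift_fst]
      rw [← Category.assoc, ← Category.assoc, toUnit_unique ((t ≫ (λ_ G).inv) ≫ fst _ _) (toUnit T)]
    · simp
  rw [reassoc_of% this, Hom.mul_def]

end Groth.Agent.CommSub.PtsSubgroup
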