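import Mathlib.CategoryTheory.Monoidal.Cartesian.Grp
import Mathlib.Algebra.Group.Pointwise.Set.Basic
import Mathlib.Algebra.Group.Commutator
import Mathlib.Algebra.Group.Subgroup.Basic
import Mathlib.Tactic.Group
import Mathlib.GroupTheory.Commutator.Basic

/-!
# Word morphisms of bounded length

For a morphism `φ : W ⟶ G` into a group object, the product morphism `Wⁿ ⟶ G`, its values on points, and its
behaviour under a product preserving functor.
-/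

set_option autoImplicit false
set_option linter.all false
set_option backward.isDefEq.respectTransparency false
set_option backward.isDefEq.respectTransparency.types false

universe v u v' u'

open CategoryTheory MonoidalCategory CartesianMonoidalCategory MonObj
open scoped Pointwise commutatorElement CategoryTheory.MonObj

namespace Groth.Agent.CommSub.Words

variable {C : Type u} [Category.{v} C] [CartesianMonoidalCategory C]

/-- The `n`-fold product. -/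
@[reducible] def src (W : C) : ℕ → C
  | 0 => 𝟙_ C
  | n + 1 => W ⊗ src W n

variable {G : C} [GrpObj G]

/-- The product of `n` values of `φ`. -/
def hom {W : C} (φ : W ⟶ G) : ∀ n, src W n ⟶ G
  | 0 => 1
  | n + 1 => (fst W (src W n) ≫ φ) * (snd W (src W n) ≫ hom φ n)

/-- The commutator of two morphisms. -/
def cm {A B : C} (a : A ⟶ G) (b : B ⟶ G) : A ⊗ B ⟶ G := ⁅fst A B ≫ a, snd A B ≫ b⁆

/-- A commutator times the inverse of a commutator. -/
def cgen {A B : C} (a : A ⟶ G) (b : B ⟶ G) : (A ⊗ B) ⊗ (A ⊗ B) ⟶ G :=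
  (fst (A ⊗ B) (A ⊗ B) ≫ cm a b) * (snd (A ⊗ B) (A ⊗ B) ≫ cm a b)⁻¹

/-- A property closed under finite products holds of the products. -/
theorem src_prop {P : C → Prop} (h1 : P (𝟙_ C)) (h2 : ∀ X Y, P X → P Y → P (X ⊗ Y)) {W : C} (hW : P W) :
    ∀ n, P (src W n)
  | 0 => h1
  | n + 1 => h2 _ _ hW (src_prop h1 h2 hW n)

theorem comp_commutator {T X : C} (t : T ⟶ X) (x y : X ⟶ G) : t ≫ ⁅x, y⁆ = ⁅t ≫ x, t ≫ y⁆ := by
  simp [commutatorElement_def, MonObj.comp_mul, GrpObj.comp_inv]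

theorem comp_cm {T A B : C} (a : A ⟶ G) (b : B ⟶ G) (x : T ⟶ A) (y : T ⟶ B) :
    lift x y ≫ cm a b = ⁅x ≫ a, y ≫ b⁆ := by
  rw [cm, comp_commutator, lift_fst_assoc, lift_snd_assoc]

/-- A commutator is a word of length `N + 1`. -/
theorem exists_cm_word {A B : C} [GrpObj A] [GrpObj B] (a : A ⟶ G) (b : B ⟶ G) [IsMonHom a] (N : ℕ) :
    ∃ j : A ⊗ B ⟶ src ((A ⊗ B) ⊗ (A ⊗ B)) (N + 1), j ≫ hom (cgen a b) (N + 1) = cm a b := by
  have hone : ∀ (T : C) (m : ℕ), ∃ t : T ⟶ src ((A ⊗ B) ⊗ (A ⊗ B)) m, t ≫ hom (cgen a b) m = 1 := by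
    intro T m
    induction m with
    | zero => exact ⟨toUnit T, MonObj.comp_one _⟩
    | succ m ih =>
      obtain ⟨t, ht⟩ := ih
      refine ⟨lift (lift (lift 1 1) (lift 1 1)) t, ?_⟩
      rw [hom, MonObj.comp_mul, lift_fst_assoc, lift_snd_assoc, ht, _root_.mul_one, cgen, MonObj.comp_mul,
        GrpObj.comp_inv, lift_fst_assoc, lift_snd_assoc, mul_inv_cancel]
  obtain ⟨t, ht⟩ := hone (A ⊗ B) N
  refine ⟨lift (lift (𝟙 _) (lift 1 1)) t, ?_⟩
  rw [hom, MonObj.comp_mul, lift_fst_assoc, lift_snd_assoc, ht, _root_.mul_one, cgen, MonObj.comp_mul,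
    GrpObj.comp_inv, lift_fst_assoc, lift_snd_assoc, Category.id_comp, comp_cm, MonObj.one_comp]
  simp [commutatorElement_def]

/-- The variant for two copies of one morphism. -/
theorem exists_cm_word_self {A : C} (a : A ⟶ G) (N : ℕ) :
    ∃ j : A ⊗ A ⟶ src ((A ⊗ A) ⊗ (A ⊗ A)) (N + 1), j ≫ hom (cgen a a) (N + 1) = cm a a := by
  have hone : ∀ (m : ℕ), ∃ t : A ⊗ A ⟶ src ((A ⊗ A) ⊗ (A ⊗ A)) m, t ≫ hom (cgen a a) m = 1 := by
    intro m
    induction m with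
    | zero => exact ⟨toUnit _, MonObj.comp_one _⟩
    | succ m ih =>
      obtain ⟨t, ht⟩ := ih
      refine ⟨lift (lift (𝟙 _) (𝟙 _)) t, ?_⟩
      rw [hom, MonObj.comp_mul, lift_fst_assoc, lift_snd_assoc, ht, _root_.mul_one, cgen, MonObj.comp_mul,
        GrpObj.comp_inv, lift_fst_assoc, lift_snd_assoc, mul_inv_cancel]
  obtain ⟨t, ht⟩ := hone N
  refine ⟨lift (lift (𝟙 _) (lift (fst A A) (fst A A))) t, ?_⟩
  rw [hom, MonObj.comp_mul, lift_fst_assoc, lift_snd_assoc, ht, _root_.mul_one, cgen, MonObj.comp_mul,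
    GrpObj.comp_inv, lift_fst_assoc, lift_snd_assoc, Category.id_comp, comp_cm]
  simp [commutatorElement_def]

section Values

/-- The values of a morphism on `T`-points. -/
def vals (T : C) {X : C} (f : X ⟶ G) : Set (T ⟶ G) := Set.range fun x : T ⟶ X => x ≫ f

theorem vals_comp (T : C) {X Y : C} (e : X ⟶ Y) (f : Y ⟶ G) : vals T (e ≫ f) ⊆ vals T f := by
  rintro _ ⟨x, rfl⟩
  exact ⟨x ≫ e, Category.assoc _ _ _⟩

end Values

section Conj

/-- `φ` is equivariant for conjugation through `q`. -/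
def IsConjStable {W : C} (φ : W ⟶ G) : Prop :=
  ∃ q : G ⊗ W ⟶ W, q ≫ φ = fst G W * (snd G W ≫ φ) * (fst G W)⁻¹

theorem IsConjStable.at_points {W : C} {φ : W ⟶ G} (h : IsConjStable φ) {T : C} (g : T ⟶ G) (w : T ⟶ W) :
    ∃ w' : T ⟶ W, w' ≫ φ = g * (w ≫ φ) * g⁻¹ := by
  obtain ⟨q, hq⟩ := h
  refine ⟨lift g w ≫ q, ?_⟩
  rw [Category.assoc, hq, MonObj.comp_mul, MonObj.comp_mul, GrpObj.comp_inv, lift_fst, lift_snd_assoc]

theorem isConjStable_id : IsConjStable (𝟙 G) :=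
  ⟨fst G G * snd G G * (fst G G)⁻¹, by simp⟩

theorem IsConjStable.cm {A B : C} {a : A ⟶ G} {b : B ⟶ G} (ha : IsConjStable a) (hb : IsConjStable b) :
    IsConjStable (cm a b) := by
  obtain ⟨x', hx⟩ := ha.at_points (fst G (A ⊗ B)) (snd G (A ⊗ B) ≫ fst A B)
  obtain ⟨y', hy⟩ := hb.at_points (fst G (A ⊗ B)) (snd G (A ⊗ B) ≫ snd A B)
  refine ⟨lift x' y', ?_⟩
  rw [comp_cm, hx, hy, Words.cm, comp_commutator, conjugate_commutatorElement, Category.assoc, Category.assoc]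

theorem IsConjStable.cgen {A B : C} {a : A ⟶ G} {b : B ⟶ G} (ha : IsConjStable a) (hb : IsConjStable b) :
    IsConjStable (cgen a b) := by
  let X := (A ⊗ B) ⊗ (A ⊗ B)
  obtain ⟨x', hx⟩ := (ha.cm hb).at_points (fst G X) (snd G X ≫ fst (A ⊗ B) (A ⊗ B))
  obtain ⟨y', hy⟩ := (ha.cm hb).at_points (fst G X) (snd G X ≫ snd (A ⊗ B) (A ⊗ B))
  refine ⟨lift x' y', ?_⟩
  rw [Words.cgen, MonObj.comp_mul, GrpObj.comp_inv, lift_fst_assoc, lift_snd_assoc, hx, hy, MonObj.comp_mul,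
    GrpObj.comp_inv, Category.assoc, Category.assoc]
  simp only [X]
  group

theorem IsConjStable.hom {W : C} {φ : W ⟶ G} (h : IsConjStable φ) : ∀ n, IsConjStable (hom φ n)
  | 0 => ⟨toUnit _, by simp [Words.hom]⟩
  | n + 1 => by
    obtain ⟨x', hx⟩ := h.at_points (fst G (src W (n + 1))) (snd G (src W (n + 1)) ≫ fst W (src W n))
    obtain ⟨y', hy⟩ := (IsConjStable.hom h n).at_points (fst G (src W (n + 1)))
      (snd G (src W (n + 1)) ≫ snd W (src W n))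
    refine ⟨lift x' y', ?_⟩
    show lift x' y' ≫ ((fst W (src W n) ≫ φ) * (snd W (src W n) ≫ Words.hom φ n)) = _
    rw [MonObj.comp_mul, lift_fst_assoc, lift_snd_assoc, hx, hy]
    show _ = fst G (src W (n + 1)) * (snd G (src W (n + 1)) ≫
      ((fst W (src W n) ≫ φ) * (snd W (src W n) ≫ Words.hom φ n))) * _
    rw [MonObj.comp_mul, Category.assoc, Category.assoc]
    group

end Conj

section Functor

variable {D : Type u'} [Category.{v'} D] [CartesianMonoidalCategory D] (F : C ⥤ D) [F.Monoidal]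

open scoped Obj

theorem map_cm {A B : C} (a : A ⟶ G) (b : B ⟶ G) :
    F.map (cm a b) = ⁅F.map (fst A B) ≫ F.map a, F.map (snd A B) ≫ F.map b⁆ := by
  simp only [cm, commutatorElement_def, Functor.map_mul, Functor.map_inv', Functor.map_comp]

theorem μ_map_cm {A B : C} (a : A ⟶ G) (b : B ⟶ G) :
    Functor.LaxMonoidal.μ F A B ≫ F.map (cm a b) = cm (F.map a) (F.map b) := by
  rw [map_cm, comp_commutator, Functor.Monoidal.μ_fst_assoc, Functor.Monoidal.μ_snd_assoc]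
  rfl

theorem map_cgen {A B : C} (a : A ⟶ G) (b : B ⟶ G) :
    F.map (cgen a b) = (F.map (fst (A ⊗ B) (A ⊗ B)) ≫ F.map (cm a b)) *
      (F.map (snd (A ⊗ B) (A ⊗ B)) ≫ F.map (cm a b))⁻¹ := by
  simp only [cgen, Functor.map_mul, Functor.map_inv', Functor.map_comp]

theorem map_hom_succ {W : C} (φ : W ⟶ G) (n : ℕ) :
    F.map (hom φ (n + 1)) = (F.map (fst W (src W n)) ≫ F.map φ) * (F.map (snd W (src W n)) ≫ F.map (hom φ n)) := by
  simp only [hom, Functor.map_mul, Functor.map_comp]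

theorem exists_pair {T : D} {X Y : C} (x : T ⟶ F.obj X) (y : T ⟶ F.obj Y) :
    ∃ z : T ⟶ F.obj (X ⊗ Y), z ≫ F.map (fst X Y) = x ∧ z ≫ F.map (snd X Y) = y :=
  ⟨lift x y ≫ Functor.LaxMonoidal.μ F X Y, by rw [Category.assoc, Functor.Monoidal.μ_fst, lift_fst],
    by rw [Category.assoc, Functor.Monoidal.μ_snd, lift_snd]⟩

theorem vals_cm (T : D) {A B : C} (a : A ⟶ G) (b : B ⟶ G) :
    vals T (F.map (cm a b)) =
      Set.range fun p : (T ⟶ F.obj A) × (T ⟶ F.obj B) => ⁅p.1 ≫ F.map a, p.2 ≫ F.map b⁆ := by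
  ext g
  constructor
  · rintro ⟨z, rfl⟩
    refine ⟨(z ≫ F.map (fst A B), z ≫ F.map (snd A B)), ?_⟩
    simp only [map_cm, comp_commutator, Category.assoc]
  · rintro ⟨⟨x, y⟩, rfl⟩
    obtain ⟨z, rfl, rfl⟩ := exists_pair F x y
    exact ⟨z, by simp only [map_cm, comp_commutator, Category.assoc]⟩

theorem vals_cgen (T : D) {A B : C} (a : A ⟶ G) (b : B ⟶ G) :
    vals T (F.map (cgen a b)) = vals T (F.map (cm a b)) * (vals T (F.map (cm a b)))⁻¹ := by
  ext g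
  constructor
  · rintro ⟨z, rfl⟩
    refine ⟨_, ⟨z ≫ F.map (fst (A ⊗ B) (A ⊗ B)), rfl⟩, _, Set.inv_mem_inv.mpr ⟨z ≫ F.map (snd (A ⊗ B) (A ⊗ B)), rfl⟩, ?_⟩
    simp only [map_cgen, MonObj.comp_mul, GrpObj.comp_inv, Category.assoc]
  · rintro ⟨_, ⟨x, rfl⟩, h, hh, rfl⟩
    obtain ⟨y, hy⟩ := hh
    have e : h = (y ≫ F.map (cm a b))⁻¹ := by
      rw [show y ≫ F.map (cm a b) = h⁻¹ from hy, _root_.inv_inv]
    obtain ⟨z, hz1, hz2⟩ := exists_pair F x y
    subst hz1 hz2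
    refine ⟨z, ?_⟩
    rw [e]
    simp only [map_cgen, MonObj.comp_mul, GrpObj.comp_inv, Category.assoc]

theorem vals_hom (T : D) {W : C} (φ : W ⟶ G) : ∀ n, vals T (F.map (hom φ n)) = vals T (F.map φ) ^ n
  | 0 => by
    rw [pow_zero]
    ext g
    simp only [hom, Functor.map_one, Set.mem_one]
    constructor
    · rintro ⟨z, rfl⟩; exact MonObj.comp_one _
    · rintro rfl
      exact ⟨toUnit T ≫ Functor.LaxMonoidal.ε F, MonObj.comp_one _⟩
  | n + 1 => by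
    rw [pow_succ', ← vals_hom T φ n]
    ext g
    constructor
    · rintro ⟨z, rfl⟩
      refine ⟨_, ⟨z ≫ F.map (fst W (src W n)), rfl⟩, _, ⟨z ≫ F.map (snd W (src W n)), rfl⟩, ?_⟩
      simp only [map_hom_succ, MonObj.comp_mul, Category.assoc]
    · rintro ⟨_, ⟨x, rfl⟩, _, ⟨y, rfl⟩, rfl⟩
      obtain ⟨z, rfl, rfl⟩ := exists_pair F x y
      exact ⟨z, by simp only [map_hom_succ, MonObj.comp_mul, Category.assoc]⟩

/-- A subgroup object containing the commutators contains the words in commutators. -/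
theorem exists_lift_words {Γ : D} [GrpObj Γ] (i : Γ ⟶ F.obj G) [IsMonHom i] {A B : C} (a : A ⟶ G) (b : B ⟶ G)
    (hab : ∀ (T : D) (x : T ⟶ F.obj A) (y : T ⟶ F.obj B), ∃ z : T ⟶ Γ, z ≫ i = ⁅x ≫ F.map a, y ≫ F.map b⁆) (N : ℕ) :
    ∃ z : F.obj (src ((A ⊗ B) ⊗ (A ⊗ B)) N) ⟶ Γ, z ≫ i = F.map (hom (cgen a b) N) := by
  obtain ⟨c, hc⟩ : ∃ c : F.obj (A ⊗ B) ⟶ Γ, c ≫ i = F.map (cm a b) := by
    obtain ⟨c, hc⟩ := hab _ (F.map (fst A B)) (F.map (snd A B))
    exact ⟨c, by rw [hc, map_cm]⟩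
  obtain ⟨c₂, hc₂⟩ : ∃ c₂ : F.obj ((A ⊗ B) ⊗ (A ⊗ B)) ⟶ Γ, c₂ ≫ i = F.map (cgen a b) :=
    ⟨(F.map (fst _ _) ≫ c) * (F.map (snd _ _) ≫ c)⁻¹, by
      rw [map_cgen, MonObj.mul_comp, GrpObj.inv_comp, Category.assoc, Category.assoc, hc]⟩
  induction N with
  | zero => exact ⟨1, by rw [MonObj.one_comp, hom, Functor.map_one]⟩
  | succ n ih =>
    obtain ⟨z, hz⟩ := ih
    exact ⟨(F.map (fst _ _) ≫ c₂) * (F.map (snd _ _) ≫ z), by
      rw [map_hom_succ, MonObj.mul_comp, Category.assoc, Category.assoc, hc₂, hz]⟩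

variable {E : Type*} [Category E] [CartesianMonoidalCategory E] (F' : D ⥤ E) [F'.Monoidal]

/-- The same after two functors in succession. -/
theorem exists_lift_words₂ {Γ : E} [GrpObj Γ] (i : Γ ⟶ F'.obj (F.obj G)) [IsMonHom i] {A B : C} (a : A ⟶ G)
    (b : B ⟶ G) (hab : ∀ (T : E) (x : T ⟶ F'.obj (F.obj A)) (y : T ⟶ F'.obj (F.obj B)),
      ∃ z : T ⟶ Γ, z ≫ i = ⁅x ≫ F'.map (F.map a), y ≫ F'.map (F.map b)⁆) (N : ℕ) :
    ∃ z : F'.obj (F.obj (src ((A ⊗ B) ⊗ (A ⊗ B)) N)) ⟶ Γ, z ≫ i = F'.map (F.map (hom (cgen a b) N)) := by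
  obtain ⟨c, hc⟩ : ∃ c : F'.obj (F.obj (A ⊗ B)) ⟶ Γ, c ≫ i = F'.map (F.map (cm a b)) := by
    obtain ⟨c, hc⟩ := hab _ (F'.map (F.map (fst A B))) (F'.map (F.map (snd A B)))
    refine ⟨c, hc.trans ?_⟩
    simp only [map_cm, commutatorElement_def, Functor.map_mul, Functor.map_inv', Functor.map_comp]
  obtain ⟨c₂, hc₂⟩ : ∃ c₂ : F'.obj (F.obj ((A ⊗ B) ⊗ (A ⊗ B))) ⟶ Γ, c₂ ≫ i = F'.map (F.map (cgen a b)) :=
    ⟨(F'.map (F.map (fst _ _)) ≫ c) * (F'.map (F.map (snd _ _)) ≫ c)⁻¹, by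
      simp only [map_cgen, Functor.map_mul, Functor.map_inv', Functor.map_comp, MonObj.mul_comp, GrpObj.inv_comp,
        Category.assoc, hc]⟩
  induction N with
  | zero => exact ⟨1, by rw [MonObj.one_comp, hom, Functor.map_one, Functor.map_one]⟩
  | succ n ih =>
    obtain ⟨z, hz⟩ := ih
    exact ⟨(F'.map (F.map (fst _ _)) ≫ c₂) * (F'.map (F.map (snd _ _)) ≫ z), by
      simp only [map_hom_succ, Functor.map_mul, Functor.map_comp, MonObj.mul_comp, Category.assoc, hc₂, hz]⟩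

end Functor

end Groth.Agent.CommSub.Words
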